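import Cfsg.Agent.Lib.Omega8Mult.Upper

/-!
# A cover of `Ω⁺₈(2)` with kernel a four-group
-/

set_option autoImplicit false
set_option linter.unusedSectionVars false
set_option maxRecDepth 20000

namespace Cfsg.Agent.Omega8Mult

open scoped commutatorElement

attribute [local irreducible] kMat gMat hMat spin

theorem eq_zero_of_val {a b : ZMod 2} (h : (1 : M16) = (-1) ^ a.val * kMat ^ b.val) :
    a = 0 ∧ b = 0 := by
  have hz : ∀ x : ZMod 2, x = 0 ∨ x = 1 := by decide
  rcases hz a with rfl | rfl <;> rcases hz b with rfl | rfl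
  · exact ⟨rfl, rfl⟩
  · rw [ZMod.val_zero, ZMod.val_one, pow_zero, pow_one, one_mul] at h
    exact absurd h.symm k_ne.1
  · rw [ZMod.val_zero, ZMod.val_one, pow_zero, pow_one, mul_one] at h
    exact absurd h k_ne.2.2
  · rw [ZMod.val_one, pow_one, pow_one, neg_one_mul] at h
    exact absurd (show kMat = -1 by rw [h, neg_neg]) k_ne.2.1

theorem kP_comm_commutator {x : ↥Pin} (hx : x ∈ commutator ↥Pin) : Commute kP x := by
  have hcen : ∀ y : ↥Pin ⧸ Scal, Commute (QuotientGroup.mk kP) y := by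
    intro y
    obtain ⟨g, rfl⟩ := QuotientGroup.mk'_surjective Scal y
    have hg : g ∈ Subgroup.closure (Set.range gen) := closure_gen ▸ Subgroup.mem_top _
    induction hg using Subgroup.closure_induction with
    | mem z hz =>
      obtain ⟨i, rfl⟩ := hz
      show QuotientGroup.mk (kP * gen i) = QuotientGroup.mk (gen i * kP)
      exact mk_eq (by rw [val_mul, val_mul, val_kP, val_gen]; exact k_anti i)
    | one => rw [map_one]; exact Commute.one_right _
    | mul z w _ _ hz hw => rw [map_mul]; exact hz.mul_right hw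
    | inv z _ hz => rw [map_inv]; exact hz.inv_right
  have hle : commutator ↥Pin ≤ Subgroup.centralizer {kP} := by
    rw [commutator_def, Subgroup.commutator_le]
    intro a _ b _
    refine Subgroup.mem_centralizer_singleton_iff.2 ?_
    have hc : ∀ g, QuotientGroup.mk' Scal (kP * g * kP⁻¹) = QuotientGroup.mk' Scal g := fun g => by
      rw [map_mul, map_mul, map_inv]
      exact mul_inv_eq_iff_eq_mul.2 (hcen _).eq
    have e : kP * ⁅a, b⁆ * kP⁻¹ = ⁅kP * a * kP⁻¹, kP * b * kP⁻¹⁆ := by
      simp only [commutatorElement_def]; group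
    rw [Cfsg.Agent.Transfer.SplitLifts.comm_congr scal_le_center (hc a) (hc b)] at e
    exact (mul_inv_eq_iff_eq_mul.1 e).symm
  exact (Subgroup.mem_centralizer_singleton_iff.1 (hle hx)).symm

theorem exists_cover :
    ∃ (Γ : Type) (_ : Group Γ) (_ : Finite Γ) (σ : Γ →* SS),
      Cfsg.IsStemExtension σ ∧ Nonempty (σ.ker ≃* Multiplicative (ZMod 2 × ZMod 2)) := by
  classical
  let D := commutator ↥Pin
  have hD : D.map (QuotientGroup.mk' Scal) = phiD.range := by
    show (commutator ↥Pin).map (QuotientGroup.mk' Scal) = phiD.range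
    rw [phiD, MonoidHom.range_comp, Subgroup.range_subtype, commutator_def, commutator_def,
      Subgroup.map_commutator, Subgroup.map_commutator,
      Subgroup.map_top_of_surjective _ (QuotientGroup.mk'_surjective _),
      Subgroup.map_top_of_surjective phiW phiW_surjective]
  let θ : D →* phiD.range :=
    ((QuotientGroup.mk' Scal).comp D.subtype).codRestrict _ fun x => by
      rw [← hD]
      exact ⟨x.1, x.2, rfl⟩
  have hθs : Function.Surjective θ := fun y => by
    have hy : y.1 ∈ D.map (QuotientGroup.mk' Scal) := by rw [hD]; exact y.2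
    obtain ⟨x, hx, e⟩ := hy
    exact ⟨⟨x, hx⟩, Subtype.ext e⟩
  let eP := MonoidHom.ofInjective phiD_injective
  let σ₀ : D →* SS := (rho.comp eP.symm.toMonoidHom).comp θ
  have hmk : ∀ x : D, (QuotientGroup.mk x.1 : ↥Pin ⧸ Scal) = phiD (eP.symm (θ x)) := fun x =>
    (congrArg Subtype.val (eP.apply_symm_apply (θ x))).symm
  have hkPD : kP ∈ D := Subgroup.commutator_mem_commutator (Subgroup.mem_top _) (Subgroup.mem_top _)
  -- lifts of the derived group
  have hlift : ∀ w : commutator WGr, ∃ x : D, (QuotientGroup.mk x.1 : ↥Pin ⧸ Scal) = phiD w := fun w => by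
    obtain ⟨x, hx⟩ := hθs ⟨phiD w, ⟨_, rfl⟩⟩
    exact ⟨x, congrArg Subtype.val hx⟩
  obtain ⟨x, hx⟩ := hlift ⟨_, simple_pair_mem 0 1⟩
  obtain ⟨y, hy⟩ := hlift ⟨_, simple_pair_mem 0 4⟩
  rw [phiD_pair] at hx hy
  obtain ⟨xg, hxg⟩ := hlift wg
  obtain ⟨yh, hyh⟩ := hlift wh
  have hg' : phiD wg = QuotientGroup.mk gP := phiW_wd _
  have hh' : phiD wh = QuotientGroup.mk hP := phiW_wd _
  rw [hg'] at hxg
  rw [hh'] at hyh
  have hxy : ⁅x.1, y.1⁆ = mone := by
    rw [Cfsg.Agent.Transfer.SplitLifts.comm_congr scal_le_center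
      (show QuotientGroup.mk' Scal x.1 = QuotientGroup.mk' Scal (gen 0 * gen 1) from hx)
      (show QuotientGroup.mk' Scal y.1 = QuotientGroup.mk' Scal (gen 0 * gen 4) from hy)]
    have key : gen 0 * gen 1 * (gen 0 * gen 4) = mone * (gen 0 * gen 4 * (gen 0 * gen 1)) := by
      refine val_inj ?_
      rw [val_mul, val_mul, val_mul, val_mul mone, val_mul, val_mul, val_mul, val_mone, neg_one_mul]
      simp only [val_gen]
      exact spin_key
    calc ⁅gen 0 * gen 1, gen 0 * gen 4⁆
        = gen 0 * gen 1 * (gen 0 * gen 4) * ((gen 0 * gen 4 * (gen 0 * gen 1)))⁻¹ := by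
          simp only [commutatorElement_def]; group
      _ = mone := by rw [key, mul_inv_cancel_right]
  have hk : ⁅xg.1, yh.1⁆ = kP :=
    Cfsg.Agent.Transfer.SplitLifts.comm_congr scal_le_center hxg hyh
  have hmD : mone ∈ D := hxy ▸ Subgroup.commutator_mem_commutator (Subgroup.mem_top _) (Subgroup.mem_top _)
  let m : D := ⟨mone, hmD⟩
  let k : D := ⟨kP, hkPD⟩
  have hm2 : m * m = 1 := Subtype.ext mone_sq
  have hk2 : k * k = 1 := Subtype.ext (val_inj (by
    show val (kP * kP) = 1
    rw [val_mul, val_kP, k_sq]))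
  have hmk' : Commute m k := Subtype.ext (mone_comm kP).symm.eq
  have hm1 : m ∈ σ₀.ker := by
    rw [MonoidHom.mem_ker]
    have h : phiD (eP.symm (θ m)) = 1 := (hmk m).symm.trans mk_mone
    show rho (eP.symm (θ m)) = 1
    rw [phiD_injective (h.trans (map_one phiD).symm), map_one]
  have hk1 : k ∈ σ₀.ker := by
    rw [MonoidHom.mem_ker]
    have h : phiD (eP.symm (θ k)) = phiD w0 := (hmk k).symm.trans phiW_w0.symm
    show rho (eP.symm (θ k)) = 1
    rw [phiD_injective h]
    exact rho_w0
  let f : Multiplicative (ZMod 2 × ZMod 2) →* σ₀.ker :=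
    four ⟨m, hm1⟩ ⟨k, hk1⟩ (Subtype.ext hm2) (Subtype.ext hk2) (Subtype.ext hmk'.eq)
  have hfval : ∀ a b : ZMod 2,
      val ((f (Multiplicative.ofAdd (a, b))).1 : ↥Pin) = (-1) ^ a.val * kMat ^ b.val := fun a b => by
    show val (((m ^ a.val * k ^ b.val : D)) : ↥Pin) = _
    rw [Subgroup.coe_mul, SubmonoidClass.coe_pow, SubmonoidClass.coe_pow, val_mul]
    have hp : ∀ (g : ↥Pin) (n : ℕ), val (g ^ n) = val g ^ n := fun g n => by
      induction n with
      | zero => rfl
      | succ n ih => rw [pow_succ, pow_succ, val_mul, ih]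
    rw [hp, hp]
    show val mone ^ a.val * val kP ^ b.val = _
    rw [val_mone, val_kP]
  have hfi : Function.Injective f := by
    rw [injective_iff_map_eq_one]
    intro p hp
    obtain ⟨⟨a, b⟩, rfl⟩ : ∃ q, Multiplicative.ofAdd q = p := ⟨p.toAdd, rfl⟩
    have h := hfval a b
    rw [hp] at h
    have h1 : (1 : M16) = (-1) ^ a.val * kMat ^ b.val := h
    obtain ⟨rfl, rfl⟩ := eq_zero_of_val h1
    rfl
  have hfs : Function.Surjective f := fun z => by
    have hz : rho (eP.symm (θ z.1)) = 1 := z.2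
    have hz2 := hmk z.1
    rcases ker_rho _ hz with e | e
    · rw [e, map_one, QuotientGroup.eq_one_iff] at hz2
      rcases mem_scal.1 hz2 with e' | e'
      · exact ⟨1, Subtype.ext (Subtype.ext (by rw [map_one]; exact e'.symm))⟩
      · exact ⟨_, (four_values _ _ _).1.trans (Subtype.ext (Subtype.ext e'.symm))⟩
    · rw [e, show phiD w0 = QuotientGroup.mk kP from phiW_w0] at hz2
      rcases mem_scal.1 (QuotientGroup.eq.1 hz2.symm) with e' | e'
      · exact ⟨_, (four_values _ _ _).2.trans (Subtype.ext (Subtype.ext (inv_mul_eq_one.1 e')))⟩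
      · refine ⟨Multiplicative.ofAdd (1, 0) * Multiplicative.ofAdd (0, 1), ?_⟩
        rw [map_mul]
        refine (congrArg₂ (· * ·) (four_values _ _ _).1 (four_values _ _ _).2).trans ?_
        refine Subtype.ext (Subtype.ext ?_)
        show mone * kP = (z.1 : ↥Pin)
        rw [eq_mul_of_inv_mul_eq e', (mone_comm kP).eq]
  refine ⟨D, inferInstance, inferInstance, σ₀,
    ⟨(rho_surjective.comp eP.symm.surjective).comp hθs, ?_, ?_⟩, ⟨(MulEquiv.ofBijective f ⟨hfi, hfs⟩).symm⟩⟩
  · intro z hz
    obtain ⟨p, hp⟩ := hfs ⟨z, hz⟩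
    have hz' : z = m ^ p.toAdd.1.val * k ^ p.toAdd.2.val := (congrArg Subtype.val hp).symm
    have hmc : m ∈ Subgroup.center D := Subgroup.mem_center_iff.2 fun g => Subtype.ext (mone_comm g.1).eq
    have hkc : k ∈ Subgroup.center D :=
      Subgroup.mem_center_iff.2 fun g => Subtype.ext (kP_comm_commutator g.2).symm.eq
    rw [hz']
    exact mul_mem (pow_mem hmc _) (pow_mem hkc _)
  · intro z hz
    obtain ⟨p, hp⟩ := hfs ⟨z, hz⟩
    have hz' : z = m ^ p.toAdd.1.val * k ^ p.toAdd.2.val := (congrArg Subtype.val hp).symm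
    rw [hz']
    have hmm : m = ⁅x, y⁆ := Subtype.ext (hxy.symm.trans (map_commutatorElement D.subtype x y).symm)
    have hkk : k = ⁅xg, yh⁆ := Subtype.ext (hk.symm.trans (map_commutatorElement D.subtype xg yh).symm)
    rw [hmm, hkk]
    exact mul_mem (pow_mem (Subgroup.commutator_mem_commutator (Subgroup.mem_top _) (Subgroup.mem_top _)) _)
      (pow_mem (Subgroup.commutator_mem_commutator (Subgroup.mem_top _) (Subgroup.mem_top _)) _)

end Cfsg.Agent.Omega8Mult
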