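import Cfsg.Agent.Lib.Omega8Mult.Relations
import Cfsg.Agent.Lib.Transfer.SplitLifts

/-!
# Lifts to a central extension of `Ω⁺₈(2)`

The generators lift to elements whose relations hold up to five central elements, one of them an
involution, subject to two further relations.
-/

set_option autoImplicit false
set_option linter.unusedSectionVars false
set_option maxRecDepth 4000

namespace Cfsg.Agent.Omega8Mult

open scoped commutatorElement IsMulCommutative

universe v

theorem alg_ac {Z : Type v} [CommGroup Z] (s a c u w e : Z) (ha : a = s ^ 3 * u ^ 3)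
    (hs : e * (s * s) * (w * w) = s) (hc : c = (u⁻¹ * w) ^ 3) :
    (a * c) ^ 2 * (s ^ 3)⁻¹ = e⁻¹ ^ 3 := by
  apply Additive.ofMul.injective
  have hs' := congrArg Additive.ofMul hs
  simp only [ha, hc, ofMul_mul, ofMul_pow, ofMul_inv] at hs' ⊢
  linear_combination (norm := module) (3 : ℤ) • hs'

variable {Γ : Type v} [Group Γ] {σ : Γ →* SS}

set_option maxHeartbeats 1600000 in
theorem exists_lifts (hsur : Function.Surjective σ) (hc : σ.ker ≤ Subgroup.center Γ) :
    ∃ (ε s a b c : Γ) (R : Fin 7 → Γ), (ε ∈ σ.ker ∧ s ∈ σ.ker ∧ a ∈ σ.ker ∧ b ∈ σ.ker ∧ c ∈ σ.ker) ∧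
      ε * ε = 1 ∧ (∀ i, σ (R i) = rs i) ∧ (∀ i, R (sm i) * R (sm i) = s) ∧
      (∀ i j, c6 i j = 2 → ⁅R (sm i), R (sm j)⁆ = ε) ∧
      (∀ i j, c6 i j = 3 → R (sm i) * R (sm j) * R (sm i) = R (sm j) * R (sm i) * R (sm j)) ∧
      R 6 * R 6 * R 6 = a ∧
      (∀ j : Fin 5, (R 6)⁻¹ * R (sm j.castSucc) * (R 6)⁻¹ * R (sm j.castSucc) = b) ∧
      ((R 6)⁻¹ * R 5) ^ 3 = c ∧ a ^ 2 * b ^ 3 = s ^ 3 ∧
      (a * c) ^ 2 * (s ^ 3)⁻¹ ∈ Subgroup.zpowers ε := by
  classical
  have hcen : ∀ {z : Γ}, z ∈ σ.ker → ∀ g, Commute g z := fun hz g => Subgroup.mem_center_iff.1 (hc hz) g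
  choose L hL using fun i => hsur (rs i)
  let ρ : Γ → Γ → Γ := fun a b => a * b * a * (b * a * b)⁻¹
  have hρ : ∀ {a b : Γ} {i j}, σ a = rs (sm i) → σ b = rs (sm j) → c6 i j = 3 →
      ρ a b ∈ σ.ker := by
    intro a b i j ha hb h
    rw [MonoidHom.mem_ker, map_mul, map_inv, map_mul, map_mul, map_mul, map_mul, ha, hb,
      rs_braid h, mul_inv_cancel]
  let adjust : Γ → Γ → Γ := fun a b => ρ a b * b
  have hadjσ : ∀ {a b : Γ} {i j}, σ a = rs (sm i) → σ b = rs (sm j) → c6 i j = 3 →
      σ (adjust a b) = rs (sm j) := fun {a b i j} ha hb h => by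
    rw [map_mul, MonoidHom.mem_ker.1 (hρ ha hb h), one_mul, hb]
  have hadjb : ∀ {a b : Γ} {i j}, σ a = rs (sm i) → σ b = rs (sm j) → c6 i j = 3 →
      a * adjust a b * a = adjust a b * a * adjust a b := fun {a b i j} ha hb h => by
    have z : ρ a b * (b * a * b) = a * b * a := inv_mul_cancel_right _ _
    have c := hcen (hρ ha hb h)
    change a * (ρ a b * b) * a = ρ a b * b * a * (ρ a b * b)
    calc a * (ρ a b * b) * a = ρ a b * (a * b * a) := by
          rw [← mul_assoc a, (c a).eq]; simp only [mul_assoc]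
      _ = ρ a b * (ρ a b * (b * a * b)) := by rw [z]
      _ = _ := by
          rw [mul_assoc (ρ a b * b) a, ← mul_assoc a (ρ a b) b, (c a).eq, mul_assoc (ρ a b) b,
            ← mul_assoc b (ρ a b * a) b, ← mul_assoc b (ρ a b) a, (c b).eq]
          simp only [mul_assoc]
  -- adjusted lifts along the diagram
  let T0 := L (sm 0)
  let T2 := adjust T0 (L (sm 2))
  let T3 := adjust T2 (L (sm 3))
  let T1 := adjust T3 (L (sm 1))
  let T4 := adjust T3 (L (sm 4))
  let T5 := adjust T4 (L (sm 5))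
  have s0 : σ T0 = rs (sm 0) := hL _
  have s2 : σ T2 = rs (sm 2) := hadjσ s0 (hL _) (by decide +kernel)
  have s3 : σ T3 = rs (sm 3) := hadjσ s2 (hL _) (by decide +kernel)
  have s1 : σ T1 = rs (sm 1) := hadjσ s3 (hL _) (by decide +kernel)
  have s4 : σ T4 = rs (sm 4) := hadjσ s3 (hL _) (by decide +kernel)
  have s5 : σ T5 = rs (sm 5) := hadjσ s4 (hL _) (by decide +kernel)
  have b02 := hadjb s0 (hL (sm 2)) (by decide +kernel)
  have b23 := hadjb s2 (hL (sm 3)) (by decide +kernel)
  have b31 := hadjb s3 (hL (sm 1)) (by decide +kernel)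
  have b34 := hadjb s3 (hL (sm 4)) (by decide +kernel)
  have b45 := hadjb s4 (hL (sm 5)) (by decide +kernel)
  let R : Fin 7 → Γ := ![T0, T1, T2, T3, T4, T5, L 6]
  let T : Fin 6 → Γ := fun i => R (sm i)
  have hR : ∀ i, σ (R i) = rs i := by
    intro i
    fin_cases i <;> first | assumption | exact hL _
  have hT : ∀ i, σ (T i) = rs (sm i) := fun i => hR _
  have hbr : ∀ i j, c6 i j = 3 → T i * T j * T i = T j * T i * T j := by
    intro i j
    fin_cases i <;> fin_cases j <;> intro h <;>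
      first
      | assumption
      | exact b02.symm | exact b23.symm | exact b31.symm | exact b34.symm | exact b45.symm
      | exact absurd h (by decide +kernel)
  have hTk : ∀ i, T i * T i ∈ σ.ker := fun i => by rw [MonoidHom.mem_ker, map_mul, hT, rs_sq]
  -- the squares agree
  set s := T 0 * T 0 with hsdef
  have hsq : ∀ i, T i * T i = s := by
    have hmove : ∀ i j, c6 i j = 3 → T i * T i = s → T j * T j = s := fun i j h e => by
      have e1 : T j = T i * T j * T i * (T i * T j)⁻¹ := by rw [hbr i j h]; group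
      rw [e1, ← e]
      calc T i * T j * T i * (T i * T j)⁻¹ * (T i * T j * T i * (T i * T j)⁻¹)
          = (T i * T j) * (T i * T i) * (T i * T j)⁻¹ := by group
        _ = T i * T i := by rw [(hcen (hTk i) (T i * T j)).eq, mul_inv_cancel_right]
    have q2 := hmove 0 2 (by decide +kernel) rfl
    have q3 := hmove 2 3 (by decide +kernel) q2
    have q1 := hmove 3 1 (by decide +kernel) q3
    have q4 := hmove 3 4 (by decide +kernel) q3
    have q5 := hmove 4 5 (by decide +kernel) q4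
    intro i
    fin_cases i <;> first | rfl | assumption
  -- the commutators agree
  let E : Fin 6 → Fin 6 → Γ := fun i j => ⁅T i, T j⁆
  have hcomm : ∀ i j, c6 i j = 2 → Commute (σ (T i)) (σ (T j)) := fun i j h => by
    rw [hT, hT]; exact rs_comm h
  have hEk : ∀ i j, c6 i j = 2 → E i j ∈ σ.ker := fun i j h => by
    rw [MonoidHom.mem_ker, map_commutatorElement, commutatorElement_eq_one_iff_commute]
    exact hcomm i j h
  have hE2 : ∀ i j, c6 i j = 2 → E i j * E i j = 1 := fun i j h => by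
    have h1 : ⁅T i * T i, T j⁆ = 1 :=
      commutatorElement_eq_one_iff_commute.2 (hcen (hTk i) (T j)).symm
    have h2 : ⁅T i * T i, T j⁆ = T i * E i j * (T i)⁻¹ * E i j := by
      simp only [E, commutatorElement_def]; group
    rw [h1, (hcen (hEk i j h) (T i)).eq, mul_inv_cancel_right] at h2
    exact h2.symm
  set ε := E 0 1 with hεdef
  have hsymm : ∀ {a b}, c6 a b = 2 → E a b = ε → E b a = ε := fun {a b} h e => by
    rw [← e, show E b a = (E a b)⁻¹ from (commutatorElement_inv _ _).symm,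
      inv_eq_of_mul_eq_one_right (hE2 a b h)]
  have hstep : ∀ {a b c}, c6 a b = 2 → c6 a c = 2 → c6 b c = 3 → E a b = ε → E a c = ε :=
    fun {a b c} hab hac hbc e => by
    rw [← e]
    have hg : T b * T c * T b * (T b * T c)⁻¹ = T c := by rw [hbr b c hbc]; group
    have hga : σ (T b * T c * T a * (T b * T c)⁻¹) = σ (T a) := by
      rw [map_mul, map_mul, map_inv, map_mul,
        ← ((hcomm a b hab).mul_right (hcomm a c hac)).eq, mul_inv_cancel_right]
    have e2 : T b * T c * E a b * (T b * T c)⁻¹ =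
        ⁅T b * T c * T a * (T b * T c)⁻¹, T b * T c * T b * (T b * T c)⁻¹⁆ := by
      simp only [E, commutatorElement_def]; group
    rw [(hcen (hEk a b hab) (T b * T c)).eq, mul_inv_cancel_right, hg,
      Cfsg.Agent.Transfer.SplitLifts.comm_congr hc hga (rfl : σ (T c) = σ (T c))] at e2
    exact e2.symm
  have e01 : E 0 1 = ε := rfl
  have e10 : E 1 0 = ε := hsymm (by decide +kernel) e01
  have e03 : E 0 3 = ε := hstep (by decide +kernel) (by decide +kernel) (by decide +kernel) e01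
  have e30 : E 3 0 = ε := hsymm (by decide +kernel) e03
  have e12 : E 1 2 = ε := hstep (by decide +kernel) (by decide +kernel) (by decide +kernel) e10
  have e21 : E 2 1 = ε := hsymm (by decide +kernel) e12
  have e04 : E 0 4 = ε := hstep (by decide +kernel) (by decide +kernel) (by decide +kernel) e03
  have e40 : E 4 0 = ε := hsymm (by decide +kernel) e04
  have e05 : E 0 5 = ε := hstep (by decide +kernel) (by decide +kernel) (by decide +kernel) e04
  have e50 : E 5 0 = ε := hsymm (by decide +kernel) e05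
  have e42 : E 4 2 = ε := hstep (by decide +kernel) (by decide +kernel) (by decide +kernel) e40
  have e24 : E 2 4 = ε := hsymm (by decide +kernel) e42
  have e52 : E 5 2 = ε := hstep (by decide +kernel) (by decide +kernel) (by decide +kernel) e50
  have e25 : E 2 5 = ε := hsymm (by decide +kernel) e52
  have e53 : E 5 3 = ε := hstep (by decide +kernel) (by decide +kernel) (by decide +kernel) e52
  have e35 : E 3 5 = ε := hsymm (by decide +kernel) e53
  have e51 : E 5 1 = ε := hstep (by decide +kernel) (by decide +kernel) (by decide +kernel) e53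
  have e15 : E 1 5 = ε := hsymm (by decide +kernel) e51
  have e14 : E 1 4 = ε := hstep (by decide +kernel) (by decide +kernel) (by decide +kernel) e15
  have e41 : E 4 1 = ε := hsymm (by decide +kernel) e14
  have hall : ∀ i j, c6 i j = 2 → E i j = ε := by
    intro i j
    fin_cases i <;> fin_cases j <;> intro h <;> first | assumption | exact absurd h (by decide +kernel)
  have hεk : ε ∈ σ.ker := hEk 0 1 (by decide +kernel)
  have hsk : s ∈ σ.ker := hTk 0
  -- the last lift
  set X := R 6 with hX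
  have hXσ : σ X = rs 6 := hR 6
  set a := X * X * X with hadef
  have hak : a ∈ σ.ker := by rw [MonoidHom.mem_ker, map_mul, map_mul, hXσ, rs_cube]
  let B : Fin 5 → Γ := fun j => X⁻¹ * T j.castSucc * X⁻¹ * T j.castSucc
  have hBk : ∀ j, B j ∈ σ.ker := fun j => by
    rw [MonoidHom.mem_ker, map_mul, map_mul, map_mul, map_inv, hXσ, hT]
    exact rs_b j
  have hconj : ∀ j, T j.castSucc * X * (T j.castSucc)⁻¹ = s * (B j)⁻¹ * X⁻¹ := fun j => by
    have e : T j.castSucc * X⁻¹ * (T j.castSucc)⁻¹ = X * B j * (T j.castSucc * T j.castSucc)⁻¹ := by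
      simp only [B]; group
    rw [hsq] at e
    calc T j.castSucc * X * (T j.castSucc)⁻¹ = (T j.castSucc * X⁻¹ * (T j.castSucc)⁻¹)⁻¹ := by group
      _ = s * (B j)⁻¹ * X⁻¹ := by rw [e]; group
  have hB3 : ∀ j, a * a * B j ^ 3 = s ^ 3 := fun j => by
    have e : T j.castSucc * a * (T j.castSucc)⁻¹ =
        (T j.castSucc * X * (T j.castSucc)⁻¹) * (T j.castSucc * X * (T j.castSucc)⁻¹) *
          (T j.castSucc * X * (T j.castSucc)⁻¹) := by
      rw [hadef]; group
    rw [(hcen hak _).eq, mul_inv_cancel_right, hconj,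
      ← show (s * (B j)⁻¹ * X⁻¹) ^ 3 = s * (B j)⁻¹ * X⁻¹ * (s * (B j)⁻¹ * X⁻¹) * (s * (B j)⁻¹ * X⁻¹) by
        simp only [pow_succ, pow_zero, one_mul]] at e
    rw [((hcen (mul_mem hsk (inv_mem (hBk j))) X⁻¹).symm).mul_pow,
      show X⁻¹ ^ 3 = a⁻¹ by simp only [hadef, pow_succ, pow_zero, one_mul, _root_.mul_inv_rev, mul_assoc]] at e
    have e2 : a * a = (s * (B j)⁻¹) ^ 3 := by
      nth_rewrite 1 [e]
      rw [inv_mul_cancel_right]
    rw [e2, (hcen (inv_mem (hBk j)) s).mul_pow, inv_pow, inv_mul_cancel_right]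
  have hBeq : ∀ i j : Fin 5, c6 i.castSucc j.castSucc = 2 → B i = B j := fun i j h => by
    set g := T i.castSucc * T j.castSucc with hg
    set u := (B j)⁻¹ * B i with hu
    have huk : u ∈ σ.ker := mul_mem (inv_mem (hBk j)) (hBk i)
    have e1 : g * X * g⁻¹ = u * X := by
      calc g * X * g⁻¹ = T i.castSucc * (T j.castSucc * X * (T j.castSucc)⁻¹) * (T i.castSucc)⁻¹ := by
            rw [hg]; group
        _ = T i.castSucc * (s * (B j)⁻¹) * X⁻¹ * (T i.castSucc)⁻¹ := by
            rw [hconj, ← mul_assoc (T i.castSucc)]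
        _ = s * (B j)⁻¹ * (T i.castSucc * X * (T i.castSucc)⁻¹)⁻¹ := by
            rw [(hcen (mul_mem hsk (inv_mem (hBk j))) (T i.castSucc)).eq]; group
        _ = s * (B j)⁻¹ * (X * (B i * s⁻¹)) := by rw [hconj]; group
        _ = s * (B j)⁻¹ * (B i * s⁻¹) * X := by
            rw [(hcen (mul_mem (hBk i) (inv_mem hsk)) X).eq, ← mul_assoc]
        _ = u * X := by
            rw [← mul_assoc (s * (B j)⁻¹), mul_assoc s, ← (hcen (mul_mem (inv_mem (hBk j)) (hBk i)) s).symm.eq,
              mul_inv_cancel_right]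
    have hgk : g * g ∈ σ.ker := by
      rw [MonoidHom.mem_ker, hg, map_mul, map_mul, hT, hT, (rs_comm h).symm.mul_mul_mul_comm, rs_sq,
        rs_sq, one_mul]
    have e2 : u * u = 1 := by
      have h' : g * g * X * (g * g)⁻¹ = u * u * X := by
        calc g * g * X * (g * g)⁻¹ = g * (g * X * g⁻¹) * g⁻¹ := by group
          _ = g * u * X * g⁻¹ := by rw [e1, ← mul_assoc g]
          _ = u * (g * X * g⁻¹) := by rw [(hcen huk g).eq]; simp only [mul_assoc]
          _ = u * u * X := by rw [e1, ← mul_assoc u]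
      rw [← (hcen hgk X).eq, mul_inv_cancel_right] at h'
      exact mul_eq_right.1 h'.symm
    have e3 : u ^ 3 = 1 := by
      rw [hu, ((hcen (hBk i) (B j)⁻¹)).mul_pow, inv_pow]
      have h1 := hB3 j
      rw [← hB3 i] at h1
      rw [inv_mul_eq_one]
      exact mul_left_cancel h1
    have e4 : u = 1 := by
      rw [show u ^ 3 = u * (u * u) by simp only [pow_succ, pow_zero, one_mul, mul_assoc], e2, mul_one] at e3
      exact e3
    exact (inv_mul_eq_one.1 e4).symm
  have hBall : ∀ j, B j = B 0 := by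
    have q1 : B 1 = B 0 := (hBeq 0 1 (by decide +kernel)).symm
    have q3 : B 3 = B 0 := (hBeq 0 3 (by decide +kernel)).symm
    have q4 : B 4 = B 0 := (hBeq 0 4 (by decide +kernel)).symm
    have q2 : B 2 = B 0 := ((hBeq 1 2 (by decide +kernel)).symm).trans q1
    intro j
    fin_cases j <;> first | rfl | assumption
  set b := B 0 with hbdef
  set c := (X⁻¹ * T 5) ^ 3 with hcdef
  have hck : c ∈ σ.ker := by
    rw [MonoidHom.mem_ker, map_pow, map_mul, map_inv, hXσ, hT]
    exact rs_c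
  -- a conjugation
  obtain ⟨G, hG⟩ := hsur (rho wc)
  set u := (T 5 * T 4)⁻¹ * (G * X * G⁻¹) with hu
  set w := (T 5 * T 3)⁻¹ * (G * T 5 * G⁻¹) with hw
  have huk : u ∈ σ.ker := by
    simp only [hu, MonoidHom.mem_ker, map_mul, map_inv, hT, hXσ, hG]
    rw [show rho wc * rs 6 = rs (sm 5) * rs (sm 4) * rho wc from rs_conj.1, mul_inv_cancel_right,
      inv_mul_cancel]
  have hwk : w ∈ σ.ker := by
    simp only [hw, MonoidHom.mem_ker, map_mul, map_inv, hT, hG]
    rw [show rho wc * rs (sm 5) = rs (sm 5) * rs (sm 3) * rho wc from rs_conj.2, mul_inv_cancel_right,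
      inv_mul_cancel]
  have gX : G * X * G⁻¹ = T 5 * T 4 * u := by rw [hu, mul_inv_cancel_left]
  have g5 : G * T 5 * G⁻¹ = T 5 * T 3 * w := by rw [hw, mul_inv_cancel_left]
  have hbr3 : ∀ i j, c6 i j = 3 → (T i * T j) ^ 3 = s ^ 3 := fun i j h => by
    calc (T i * T j) ^ 3 = T i * T j * T i * (T j * T i * T j) := by
          simp only [pow_succ, pow_zero, one_mul, mul_assoc]
      _ = T i * (T j * ((T i * T i) * T j)) * T i := by rw [← hbr i j h]; simp only [mul_assoc]
      _ = s ^ 3 := by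
          rw [hsq i, ← mul_assoc (T j), (hcen hsk (T j)).eq, mul_assoc s, hsq j,
            (hcen (mul_mem hsk hsk) (T i)).eq, mul_assoc, hsq i]
          simp only [pow_succ, pow_zero, one_mul]
  have ea : a = s ^ 3 * u ^ 3 := by
    have e : G * a * G⁻¹ = (G * X * G⁻¹) ^ 3 := by
      simp only [hadef, pow_succ, pow_zero, one_mul]; group
    rw [(hcen hak G).eq, mul_inv_cancel_right, gX, (hcen huk _).mul_pow,
      hbr3 5 4 (by decide +kernel)] at e
    exact e
  have es : ε * (s * s) * (w * w) = s := by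
    have e : G * (T 5 * T 5) * G⁻¹ = (G * T 5 * G⁻¹) * (G * T 5 * G⁻¹) := by group
    rw [hsq, (hcen hsk G).eq, mul_inv_cancel_right, g5,
      (hcen hwk (T 5 * T 3)).symm.mul_mul_mul_comm] at e
    have h53 : T 3 * T 5 = ε * (T 5 * T 3) := by
      rw [← hall 3 5 (by decide +kernel)]
      simp only [E, commutatorElement_def]; group
    rw [show T 5 * T 3 * (T 5 * T 3) = ε * (s * s) by
      rw [mul_assoc (T 5), ← mul_assoc (T 3), h53, ← mul_assoc (T 5), ← mul_assoc (T 5),
        (hcen hεk (T 5)).eq]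
      simp only [mul_assoc]
      rw [← mul_assoc (T 5) (T 5), hsq, hsq]] at e
    exact e.symm
  have ec : c = (u⁻¹ * w) ^ 3 := by
    have e : G * c * G⁻¹ = ((G * X * G⁻¹)⁻¹ * (G * T 5 * G⁻¹)) ^ 3 := by
      simp only [hcdef, pow_succ, pow_zero, one_mul]; group
    rw [(hcen hck G).eq, mul_inv_cancel_right, gX, g5] at e
    have e' : (T 5 * T 4 * u)⁻¹ * (T 5 * T 3 * w) = ((T 4)⁻¹ * T 3) * (u⁻¹ * w) := by
      calc (T 5 * T 4 * u)⁻¹ * (T 5 * T 3 * w) = u⁻¹ * ((T 4)⁻¹ * T 3) * w := by group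
        _ = _ := by rw [← (hcen (inv_mem huk) _).eq, mul_assoc]
    have h4 : (T 4)⁻¹ = T 4 * s⁻¹ := eq_comm.1 (by rw [← hsq 4]; group)
    have h43 : ((T 4)⁻¹ * T 3) ^ 3 = 1 := by
      rw [h4, mul_assoc, ← (hcen (inv_mem hsk) (T 3)).eq, ← mul_assoc,
        (hcen (inv_mem hsk) _).mul_pow, hbr3 4 3 (by decide +kernel), inv_pow, mul_inv_cancel]
    rw [e', (hcen (mul_mem (inv_mem huk) hwk) _).mul_pow, h43, one_mul] at e
    exact e
  refine ⟨ε, s, a, b, c, R, ⟨hεk, hsk, hak, hBk 0, hck⟩, hE2 0 1 (by decide +kernel), hR, hsq, hall,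
    hbr, rfl, fun j => hBall j, rfl, by rw [pow_two]; exact hB3 0, ?_⟩
  have halg := congrArg Subtype.val (alg_ac (Z := Subgroup.center Γ) ⟨s, hc hsk⟩ ⟨a, hc hak⟩
    ⟨c, hc hck⟩ ⟨u, hc huk⟩ ⟨w, hc hwk⟩ ⟨ε, hc hεk⟩ (Subtype.ext ea) (Subtype.ext es) (Subtype.ext ec))
  simp only [Subgroup.coe_mul, SubmonoidClass.coe_pow, Subgroup.coe_inv] at halg
  rw [halg]
  exact pow_mem (inv_mem (Subgroup.mem_zpowers ε)) 3

end Cfsg.Agent.Omega8Mult
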