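import Cfsg.Agent.Lib.Omega8Mult.Data
import Cfsg.Agent.Lib.Forms.Reflections
import Cfsg.Agent.Lib.Classical.OrthSimple
import Cfsg.Agent.Lib.Classical.OrthForms
import Cfsg.Agent.Lib.Classical.OrthOrders
import Cfsg.Agent.Lib.Forms.SpecialOrth
import Cfsg.Agent.Lib.Chevalley.Types.CoxE8
import Mathlib.GroupTheory.Coxeter.Basic

/-!
# The Weyl group of type `E₈` acting on the orthogonal space `F₂⁸`
-/

set_option autoImplicit false
set_option linter.unusedSectionVars false
set_option linter.style.haveILetI false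
set_option maxRecDepth 20000

namespace Cfsg.Agent.Omega8Mult

open Matrix
open scoped commutatorElement

/-- The Coxeter matrix. -/
abbrev cm : CoxeterMatrix (Fin 8) := CoxeterMatrix.E₈

/-- The Weyl group. -/
abbrev WGr : Type := cm.Group

/-- The Coxeter system. -/
abbrev csys : CoxeterSystem cm WGr := cm.toCoxeterSystem

theorem e8_cases : ∀ i j : Fin 8, i = j ∨ cm i j = 2 ∨ cm i j = 3 := by
  intro i j
  fin_cases i <;> fin_cases j <;> decide +kernel

section Relations

variable {G : Type*} [Group G]

/-- Two involutions satisfying the braid relation have product of order dividing three. -/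
theorem braid_pow {a b : G} (ha : a * a = 1) (hb : b * b = 1) (h : a * b * a = b * a * b) :
    (a * b) ^ 3 = 1 := by
  rw [show (a * b) ^ 3 = a * b * a * (b * a * b) by
    simp only [pow_succ, pow_zero, one_mul, mul_assoc], ← h, ← mul_assoc, ← mul_assoc,
    mul_assoc (a * b) a a, ha, mul_one, mul_assoc a b b, hb, mul_one, ha]

theorem pow_three_braid {a b : G} (ha : a * a = 1) (hb : b * b = 1) (h : (a * b) ^ 3 = 1) :
    a * b * a = b * a * b := by
  rw [show (a * b) ^ 3 = a * b * a * (b * a * b) by
    simp only [pow_succ, pow_zero, one_mul, mul_assoc]] at h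
  rw [eq_inv_of_mul_eq_one_left h, _root_.mul_inv_rev, _root_.mul_inv_rev, inv_eq_of_mul_eq_one_right ha,
    inv_eq_of_mul_eq_one_right hb, mul_assoc]

theorem isLiftable {f : Fin 8 → G} (hsq : ∀ i, f i * f i = 1)
    (h2 : ∀ i j, cm i j = 2 → Commute (f i) (f j))
    (h3 : ∀ i j, cm i j = 3 → f i * f j * f i = f j * f i * f j) : cm.IsLiftable f := by
  intro i j
  rcases e8_cases i j with rfl | h | h
  · rw [cm.diagonal, pow_one, hsq]
  · rw [h, pow_two, ← mul_assoc, mul_assoc (f i), ← (h2 i j h).eq, ← mul_assoc, hsq, one_mul, hsq]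
  · rw [h]
    exact braid_pow (hsq i) (hsq j) (h3 i j h)

end Relations

/-- The product along a word of a monoid, checked step by step. -/
def chk {M : Type*} [Monoid M] [DecidableEq M] (gen : Fin 8 → M) : List (Fin 8) → List M → Bool
  | [], [m] => decide (m = 1)
  | a :: w, m :: m' :: Ms => decide (m = gen a * m') && chk gen w (m' :: Ms)
  | _, _ => false

theorem chk_prod {M : Type*} [Monoid M] [DecidableEq M] (gen : Fin 8 → M) :
    ∀ (w : List (Fin 8)) (Ms : List M), chk gen w Ms = true → (w.map gen).prod = Ms.headD 1 := by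
  intro w
  induction w with
  | nil =>
    intro Ms h
    match Ms, h with
    | [m], h => simp only [chk, decide_eq_true_eq] at h; simp [h]
    | [], h => simp [chk] at h
    | _ :: _ :: _, h => simp [chk] at h
  | cons a w ih =>
    intro Ms h
    match Ms, h with
    | [m], h => simp [chk] at h
    | [], h => simp [chk] at h
    | m :: m' :: Ms, h =>
      simp only [chk, Bool.and_eq_true, decide_eq_true_eq] at h
      have e := ih _ h.2
      simp only [List.headD_cons] at e
      simp [e, h.1]

/-- Positions of the coordinates. -/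
def ix : Fin 4 ⊕ Fin 4 → ℕ := Sum.elim (fun i => i.val) fun i => i.val + 4

/-- Vectors over the field with two elements. -/
abbrev V2 : Type := Fin 4 ⊕ Fin 4 → ZMod 2

/-- Eight by eight matrices over the field with two elements. -/
abbrev M8 : Type := Matrix (Fin 4 ⊕ Fin 4) (Fin 4 ⊕ Fin 4) (ZMod 2)

/-- The quadratic form. -/
abbrev Q8 : V2 → ZMod 2 := Cfsg.quadFormPlus 4 (ZMod 2)

/-- The orthogonal group. -/
abbrev O8 : Subgroup (Matrix.GeneralLinearGroup (Fin 4 ⊕ Fin 4) (ZMod 2)) :=
  Cfsg.isometryGroup (ZMod 2) Q8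

/-- Its polar form. -/
def pol (u w : V2) : ZMod 2 := ∑ i, (u (.inl i) * w (.inr i) + u (.inr i) * w (.inl i))

/-- A vector from its code. -/
def vec (n : ℕ) : V2 := fun a => if n.testBit (ix a) then 1 else 0

/-- The code of a vector. -/
def enc (u : V2) : ℕ :=
  (u (.inl 0)).val + 2 * (u (.inl 1)).val + 4 * (u (.inl 2)).val + 8 * (u (.inl 3)).val +
    16 * (u (.inr 0)).val + 32 * (u (.inr 1)).val + 64 * (u (.inr 2)).val + 128 * (u (.inr 3)).val

/-- A matrix from its coded rows. -/
def mk8 (l : List ℕ) : M8 :=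
  Matrix.of fun a b => if (l.getD (ix a) 0).testBit (ix b) then 1 else 0

/-- The move by a reflection. -/
def mv (k : Fin 8) (u : V2) : V2 := u + pol (vec (Data.vecs k)) u • vec (Data.vecs k)

/-- The reflection matrices. -/
def T (i : Fin 8) : M8 := mk8 (Data.refl i)

theorem vec_nonsingular : ∀ i, Q8 (vec (Data.vecs i)) = 1 := by
  decide +kernel

theorem T_mulVec : ∀ (i : Fin 8) (u : V2), T i *ᵥ u = mv i u := by
  decide +kernel

theorem T_preserves : ∀ (i : Fin 8) (u : V2), Q8 (mv i u) = Q8 u := by
  decide +kernel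

theorem T_sq : ∀ i, T i * T i = 1 := by
  decide +kernel

theorem T_rel : ∀ i j, (cm i j = 2 → T i * T j = T j * T i) ∧
    (cm i j = 3 → T i * T j * T i = T j * T i * T j) := by
  intro i j
  fin_cases i <;> fin_cases j <;> decide +kernel

theorem tree_spec : ∀ u : V2, Q8 u = 1 →
    (Data.tree.getD (enc u) (0, [])).2.foldl (fun x k => mv k x)
      (vec (Data.vecs (Data.tree.getD (enc u) (0, [])).1)) = u := by
  decide +kernel

theorem pol_add_left (a b u : V2) : pol (a + b) u = pol a u + pol b u := by
  simp only [pol, Pi.add_apply, add_mul, Finset.sum_add_distrib]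
  ring

theorem pol_smul_left (c : ZMod 2) (a u : V2) : pol (c • a) u = c * pol a u := by
  simp only [pol, Pi.smul_apply, smul_eq_mul, Finset.mul_sum, mul_add, mul_assoc]

theorem pol_comm (a b : V2) : pol a b = pol b a := by
  simp only [pol]
  exact Finset.sum_congr rfl fun i _ => by ring

theorem pol_add_right (u a b : V2) : pol u (a + b) = pol u a + pol u b := by
  rw [pol_comm, pol_add_left, pol_comm a, pol_comm b]

theorem pol_smul_right (c : ZMod 2) (u a : V2) : pol u (c • a) = c * pol u a := by
  rw [pol_comm, pol_smul_left, pol_comm]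

theorem pol_mv (k : Fin 8) (x u : V2) : pol x (mv k u) = pol (mv k x) u := by
  simp only [mv, pol_add_left, pol_add_right, pol_smul_left, pol_smul_right]
  rw [pol_comm x (vec (Data.vecs k))]
  ring

/-- The reflections as units. -/
def tU (i : Fin 8) : Matrix.GeneralLinearGroup (Fin 4 ⊕ Fin 4) (ZMod 2) :=
  ⟨T i, T i, T_sq i, T_sq i⟩

theorem tU_mem (i : Fin 8) : tU i ∈ O8 := fun u _ => by
  show Q8 (T i *ᵥ u) = Q8 u
  rw [T_mulVec, T_preserves]

/-- The reflections. -/
def t (i : Fin 8) : O8 := ⟨tU i, tU_mem i⟩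

/-- The matrix of an isometry. -/
def mat (A : O8) : M8 := ((A : Matrix.GeneralLinearGroup (Fin 4 ⊕ Fin 4) (ZMod 2)) : M8)

theorem mat_mul (A B : O8) : mat (A * B) = mat A * mat B := rfl

theorem mat_one : mat 1 = 1 := rfl

theorem mat_t (i : Fin 8) : mat (t i) = T i := rfl

theorem mat_inj {A B : O8} (h : mat A = mat B) : A = B := Subtype.ext (Units.ext h)

theorem mat_prod (w : List (Fin 8)) : mat (w.map t).prod = (w.map T).prod := by
  induction w with
  | nil => rfl
  | cons a w ih => rw [List.map_cons, List.map_cons, List.prod_cons, List.prod_cons, mat_mul, ih, mat_t]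

theorem t_sq (i : Fin 8) : t i * t i = 1 := mat_inj (T_sq i)

theorem polar_eq (u w : V2) :
    QuadraticMap.polar (Cfsg.Agent.Forms.PlusStd.plusQ (ZMod 2) 4) u w = pol u w := by
  simp only [QuadraticMap.polar, Cfsg.Agent.Forms.PlusStd.plusQ_apply, Cfsg.quadFormPlus, pol,
    Pi.add_apply, ← Finset.sum_sub_distrib]
  exact Finset.sum_congr rfl fun i _ => by ring

theorem closure_t : Subgroup.closure (Set.range t) = ⊤ := by
  set H := Subgroup.closure (Set.range t) with hH
  have hQ := Cfsg.Agent.Forms.PlusStd.plusQ_nondeg (ZMod 2) 4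
  let refl : V2 → V2 → V2 := fun v u => u + pol v u • v
  -- the reflection in a moved vector
  have hfold : ∀ (w : List (Fin 8)) (x : V2), (∃ B ∈ H, ∀ u, mat B *ᵥ u = refl x u) →
      ∃ B ∈ H, ∀ u, mat B *ᵥ u = refl (w.foldl (fun x k => mv k x) x) u := by
    intro w
    induction w with
    | nil => exact fun x hx => hx
    | cons k w ih =>
      intro x ⟨B, hB, hBu⟩
      have hk : t k ∈ H := Subgroup.subset_closure ⟨k, rfl⟩
      refine ih (mv k x) ⟨t k * B * t k, mul_mem (mul_mem hk hB) hk, fun u => ?_⟩
      have e : T k *ᵥ (T k *ᵥ u) = u := by rw [Matrix.mulVec_mulVec, T_sq, Matrix.one_mulVec]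
      rw [mat_mul, mat_mul, mat_t, ← Matrix.mulVec_mulVec, ← Matrix.mulVec_mulVec, hBu]
      show T k *ᵥ (T k *ᵥ u + pol x (T k *ᵥ u) • x) = _
      rw [Matrix.mulVec_add, Matrix.mulVec_smul, e, T_mulVec k u, pol_mv, T_mulVec k x]
  have hall : ∀ v, Q8 v = 1 → ∃ B ∈ H, ∀ u, mat B *ᵥ u = refl v u := fun v hv => by
    rw [← tree_spec v hv]
    refine hfold _ _ ⟨t (Data.tree.getD (enc v) (0, [])).1, Subgroup.subset_closure ⟨_, rfl⟩,
      fun u => ?_⟩
    rw [mat_t, T_mulVec]
    rfl
  rw [eq_top_iff]
  intro A _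
  have hA : (A : Matrix.GeneralLinearGroup (Fin 4 ⊕ Fin 4) (ZMod 2)) ∈
      Cfsg.isometryGroup (ZMod 2) ⇑(Cfsg.Agent.Forms.PlusStd.plusQ (ZMod 2) 4) := by
    rw [Cfsg.Agent.Classical.OrthForms.plusQ_eq]; exact A.2
  have htop := Cfsg.Agent.Forms.Reflections.refGroup_eq_top hQ (Or.inr (by simp))
  have key : ∀ g ∈ Cfsg.Agent.Forms.Reflections.refGroup (Cfsg.Agent.Forms.PlusStd.plusQ (ZMod 2) 4),
      ∃ B ∈ H, (B : Matrix.GeneralLinearGroup (Fin 4 ⊕ Fin 4) (ZMod 2)) = g := by
    intro g hg
    induction hg using Subgroup.closure_induction with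
    | mem x hx =>
      obtain ⟨v, hv, rfl⟩ := hx
      have h1 : Q8 v = 1 := by
        have hz : ∀ a : ZMod 2, a ≠ 0 → a = 1 := by decide
        show Cfsg.quadFormPlus 4 (ZMod 2) v = 1
        rw [← Cfsg.Agent.Classical.OrthForms.plusQ_eq]
        exact hz _ hv
      obtain ⟨B, hB, hBu⟩ := hall v h1
      refine ⟨B, hB, Units.ext (Matrix.ext_iff_mulVec.2 fun u => (hBu u).trans ?_)⟩
      refine (Eq.trans ?_ (Cfsg.Agent.Forms.Reflections.act_reflect v u).symm).trans
        (Cfsg.Agent.Forms.Reflections.act_apply _ _)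
      rw [show Cfsg.Agent.Forms.PlusStd.plusQ (ZMod 2) 4 v = 1 by
        rw [Cfsg.Agent.Classical.OrthForms.plusQ_eq]; exact h1, polar_eq, inv_one, one_mul]
      exact (CharTwo.sub_eq_add _ _).symm
    | one => exact ⟨1, one_mem _, rfl⟩
    | mul x y _ _ hx hy =>
      obtain ⟨B, hB, e⟩ := hx
      obtain ⟨C, hC, e'⟩ := hy
      exact ⟨B * C, mul_mem hB hC, by rw [Subgroup.coe_mul, Subgroup.coe_mul, e, e']⟩
    | inv x _ hx =>
      obtain ⟨B, hB, e⟩ := hx
      exact ⟨B⁻¹, inv_mem hB, by rw [Subgroup.coe_inv, Subgroup.coe_inv, e]⟩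
  obtain ⟨B, hB, e⟩ := key ⟨_, hA⟩ (by rw [htop]; exact Subgroup.mem_top _)
  exact (Subtype.ext e : B = A) ▸ hB

/-- The Weyl group acting on the orthogonal space. -/
def piW : WGr →* O8 := csys.lift ⟨t, isLiftable t_sq
  (fun i j h => mat_inj ((T_rel i j).1 h)) (fun i j h => mat_inj ((T_rel i j).2 h))⟩

theorem piW_simple (i : Fin 8) : piW (csys.simple i) = t i :=
  CoxeterSystem.lift_apply_simple _ _ i

theorem piW_surjective : Function.Surjective piW := by
  rw [← MonoidHom.range_eq_top, eq_top_iff, ← closure_t, Subgroup.closure_le]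
  rintro _ ⟨i, rfl⟩
  exact ⟨csys.simple i, piW_simple i⟩

/-- The product of simple reflections along a word. -/
def wd (w : List (Fin 8)) : WGr := (w.map csys.simple).prod

theorem piW_wd (w : List (Fin 8)) : piW (wd w) = (w.map t).prod := by
  rw [wd, map_list_prod, List.map_map]
  exact congrArg (fun f => (w.map f).prod) (funext piW_simple)

/-- The simple group. -/
abbrev SS : Type := ↥(Cfsg.Omega (ZMod 2) Q8)

theorem card_O8 : Nat.card O8 = 348364800 := by
  have h := Cfsg.Agent.Classical.OrthForms.natCard_O_plus (F := ZMod 2) (ZMod.card 2) 3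
  rw [Cfsg.Agent.Classical.OrthForms.plusQ_eq] at h
  rw [h]
  decide +kernel

theorem card_SS : Nat.card SS = 174182400 := by
  have h := Cfsg.Agent.Forms.SpecialOrth.omega_index_two (F := ZMod 2)
    (Cfsg.Agent.Forms.PlusStd.plusQ_nondeg (ZMod 2) 4) (Or.inr (by simp)) (by simp)
  rw [Cfsg.Agent.Classical.OrthForms.plusQ_eq] at h
  have h2 := Subgroup.card_mul_index (Cfsg.Omega (ZMod 2) Q8)
  rw [h, card_O8] at h2
  change Nat.card ↥(Cfsg.Omega (ZMod 2) Q8) = _
  omega

theorem center_SS : Subgroup.center SS = ⊥ := by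
  have hQ := Cfsg.Agent.Forms.PlusStd.plusQ_nondeg (ZMod 2) 4
  have f := Cfsg.Agent.Classical.OrthForms.plusFrame (ZMod 2) (show 3 ≤ 4 by norm_num)
  have h2 := Cfsg.Agent.Classical.Orth.natCard_center_one hQ f (by simp) (Or.inl (by decide))
  rw [Cfsg.Agent.Classical.OrthForms.plusQ_eq] at h2
  exact Subgroup.card_eq_one.1 h2

theorem simple_SS : IsSimpleGroup SS := by
  have hQ := Cfsg.Agent.Forms.PlusStd.plusQ_nondeg (ZMod 2) 4
  have f := Cfsg.Agent.Classical.OrthForms.plusFrame (ZMod 2) (show 3 ≤ 4 by norm_num)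
  have hn : 5 ≤ Fintype.card (Fin 4 ⊕ Fin 4) := by simp
  have h1 := Cfsg.Agent.Classical.Orth.isSimpleGroup_POmega hQ f hn
  rw [Cfsg.Agent.Classical.OrthForms.plusQ_eq] at h1
  exact MulEquiv.isSimpleGroup
    ((QuotientGroup.quotientMulEquivOfEq center_SS).trans QuotientGroup.quotientBot).symm

theorem perfect_SS : commutator SS = ⊤ := by
  haveI := simple_SS
  refine (IsSimpleGroup.eq_bot_or_eq_top_of_normal (commutator SS) inferInstance).resolve_left
    fun h => ?_
  have hc : Subgroup.center SS = ⊤ := top_le_iff.1 fun a _ => Subgroup.mem_center_iff.2 fun b => by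
    have hab : ⁅b, a⁆ ∈ commutator SS :=
      Subgroup.commutator_mem_commutator (Subgroup.mem_top _) (Subgroup.mem_top _)
    rw [h, Subgroup.mem_bot] at hab
    exact commutatorElement_eq_one_iff_mul_comm.1 hab
  have h1 := card_SS
  rw [← Subgroup.card_top (G := SS), ← hc, center_SS, Subgroup.card_bot] at h1
  norm_num at h1

theorem wd_mem (n : ℕ) : ∀ w : List (Fin 8), w.length = 2 * n → wd w ∈ commutator WGr := by
  induction n with
  | zero => intro w hw; rw [List.length_eq_zero_iff.1 hw]; exact one_mem _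
  | succ n ih =>
    intro w hw
    match w, hw with
    | a :: b :: w, hw =>
      have hab : csys.simple a * csys.simple b ∈ commutator WGr := by
        have hstep : ∀ a b, cm a b = 3 →
            Abelianization.of (csys.simple a) = Abelianization.of (csys.simple b) := by
          intro a b h
          have h' := pow_three_braid (csys.simple_mul_simple_self a) (csys.simple_mul_simple_self b)
            (by rw [← h]; exact csys.simple_mul_simple_pow a b)
          have e := congrArg Abelianization.of h'
          rw [map_mul, map_mul, map_mul, map_mul, mul_comm (Abelianization.of (csys.simple b))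
            (Abelianization.of (csys.simple a))] at e
          exact mul_left_cancel e
        have q2 := hstep 0 2 (by decide +kernel)
        have q3 := q2.trans (hstep 2 3 (by decide +kernel))
        have q1 := q3.trans (hstep 3 1 (by decide +kernel))
        have q4 := q3.trans (hstep 3 4 (by decide +kernel))
        have q5 := q4.trans (hstep 4 5 (by decide +kernel))
        have q6 := q5.trans (hstep 5 6 (by decide +kernel))
        have q7 := q6.trans (hstep 6 7 (by decide +kernel))
        have hall : ∀ k, Abelianization.of (csys.simple 0) = Abelianization.of (csys.simple k) := by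
          intro k
          fin_cases k <;> first | rfl | assumption
        rw [← Abelianization.ker_of, MonoidHom.mem_ker, map_mul, ← hall a, ← hall b, ← map_mul,
          csys.simple_mul_simple_self, map_one]
      have hw' : w.length = 2 * n := by simp only [List.length_cons] at hw; omega
      simpa [wd, mul_assoc] using mul_mem hab (ih w hw')
    | [a], hw => simp only [List.length_singleton] at hw; omega
    | [], hw => simp at hw

/-- The map onto the simple group. -/
def rho : commutator WGr →* SS :=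
  (piW.comp (commutator WGr).subtype).codRestrict _ fun x => by
    have h : (commutator WGr).map piW ≤ Cfsg.Omega (ZMod 2) Q8 := by
      rw [commutator_def, Subgroup.map_commutator, Subgroup.map_top_of_surjective _ piW_surjective]
      exact le_rfl
    exact h ⟨x.1, x.2, rfl⟩

theorem rho_val (x : commutator WGr) : (rho x : O8) = piW x := rfl

theorem rho_surjective : Function.Surjective rho := fun y => by
  have hy : (y : O8) ∈ (commutator WGr).map piW := by
    rw [commutator_def, Subgroup.map_commutator, Subgroup.map_top_of_surjective _ piW_surjective]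
    exact y.2
  obtain ⟨x, hx, e⟩ := hy
  exact ⟨⟨x, hx⟩, Subtype.ext e⟩

theorem finite_W : Finite WGr :=
  Nat.finite_of_card_ne_zero (by rw [Chevalley.Types.CoxE8.card_eq]; norm_num)

theorem card_ker_rho : Nat.card rho.ker ≤ 2 := by
  haveI := finite_W
  let sgn : WGr →* ℤˣ := csys.lift ⟨fun _ => -1, fun i j => by simp⟩
  have h1 : commutator WGr ≤ sgn.ker := Abelianization.commutator_subset_ker sgn
  have h2 : Function.Surjective sgn := fun x => by
    rcases Int.units_eq_one_or x with rfl | rfl
    · exact ⟨1, map_one _⟩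
    · exact ⟨csys.simple 0, CoxeterSystem.lift_apply_simple _ _ _⟩
  have h3 := Subgroup.card_eq_card_quotient_mul_card_subgroup sgn.ker
  rw [Nat.card_congr (QuotientGroup.quotientKerEquivOfSurjective sgn h2).toEquiv,
    Chevalley.Types.CoxE8.card_eq, Nat.card_eq_fintype_card (α := ℤˣ), Fintype.card_units_int] at h3
  have h4 := Subgroup.card_le_of_le h1
  have h5 := Subgroup.card_eq_card_quotient_mul_card_subgroup rho.ker
  rw [Nat.card_congr (QuotientGroup.quotientKerEquivOfSurjective rho rho_surjective).toEquiv,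
    card_SS] at h5
  omega

/-- The first special element. -/
def wg : commutator WGr := ⟨wd Data.gW, wd_mem 6 _ rfl⟩

/-- The second special element. -/
def wh : commutator WGr := ⟨wd Data.hW, wd_mem 24 _ rfl⟩

/-- The conjugating element. -/
def wc : commutator WGr := ⟨wd Data.cW, wd_mem 5 _ rfl⟩

/-- The non-trivial element of the kernel. -/
def w0 : commutator WGr := ⁅wg, wh⁆

theorem piW_word {w : List (Fin 8)} {Ms : List (List ℕ)} (h : chk T w (Ms.map mk8) = true) :
    mat (piW (wd w)) = (Ms.map mk8).headD 1 := by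
  rw [piW_wd, mat_prod]
  exact chk_prod _ _ _ h

theorem mat_wg : mat (piW (wd Data.gW)) = (Data.gChain2.map mk8).headD 1 :=
  piW_word (by decide +kernel)

theorem mat_wh : mat (piW (wd Data.hW)) = (Data.hChain2.map mk8).headD 1 :=
  piW_word (by decide +kernel)

theorem mat_wc : mat (piW (wd Data.cW)) = (Data.cChain2.map mk8).headD 1 :=
  piW_word (by decide +kernel)

theorem rho_wg_sq : rho wg * rho wg = 1 := by
  refine Subtype.ext (mat_inj ?_)
  rw [Subgroup.coe_mul, mat_mul, rho_val]
  change mat (piW (wd Data.gW)) * mat (piW (wd Data.gW)) = mat 1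
  rw [mat_wg, mat_one]
  decide +kernel

theorem rho_w0 : rho w0 = 1 := by
  rw [w0, map_commutatorElement, commutatorElement_eq_one_iff_mul_comm]
  refine Subtype.ext (mat_inj ?_)
  rw [Subgroup.coe_mul, Subgroup.coe_mul, mat_mul, mat_mul]
  change mat (piW (wd Data.gW)) * mat (piW (wd Data.hW)) =
    mat (piW (wd Data.hW)) * mat (piW (wd Data.gW))
  rw [mat_wg, mat_wh]
  decide +kernel

end Cfsg.Agent.Omega8Mult
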