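import Cfsg.Agent.Lib.Omega8Mult.Spin

/-!
# Relations in `Ω⁺₈(2)` between the products `r₇ rᵢ`
-/

set_option autoImplicit false
set_option linter.unusedSectionVars false
set_option maxRecDepth 20000

namespace Cfsg.Agent.Omega8Mult

/-- The matrix of an element of the simple group. -/
def mS (x : SS) : M8 := mat x.1

theorem mS_mul (x y : SS) : mS (x * y) = mS x * mS y := rfl

theorem mS_one : mS 1 = 1 := rfl

theorem mS_inj {x y : SS} (h : mS x = mS y) : x = y := Subtype.ext (mat_inj h)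

/-- The products with the last reflection. -/
def rs (i : Fin 7) : SS := rho ⟨csys.simple 7 * csys.simple i.castSucc, simple_pair_mem 7 i.castSucc⟩

/-- Their matrices. -/
def RT (i : Fin 7) : M8 := T 7 * T i.castSucc

theorem rs_val (i : Fin 7) : (rs i : O8) = t 7 * t i.castSucc := by
  rw [rs, rho_val]
  show piW (csys.simple 7 * csys.simple i.castSucc) = _
  rw [map_mul, piW_simple, piW_simple]

theorem mS_rs (i : Fin 7) : mS (rs i) = RT i := by
  rw [mS, rs_val]
  rfl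

/-- The positions of the first six products. -/
def sm (i : Fin 6) : Fin 7 := i.castSucc

/-- The Coxeter matrix on the first six nodes. -/
def c6 (i j : Fin 6) : ℕ := cm i.castSucc.castSucc j.castSucc.castSucc

theorem RT_rel : ∀ i j : Fin 6, RT (sm i) * RT (sm i) = 1 ∧
    (c6 i j = 2 → RT (sm i) * RT (sm j) = RT (sm j) * RT (sm i)) ∧
    (c6 i j = 3 → RT (sm i) * RT (sm j) * RT (sm i) = RT (sm j) * RT (sm i) * RT (sm j)) := by
  intro i j
  fin_cases i <;> fin_cases j <;> decide +kernel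

theorem RT_last : RT 6 * RT 6 * RT 6 = 1 ∧
    (∀ j : Fin 5, RT 6 * RT 6 * RT (sm j.castSucc) * (RT 6 * RT 6 * RT (sm j.castSucc)) = 1) ∧
    RT 6 * RT 6 * RT 5 * (RT 6 * RT 6 * RT 5) * (RT 6 * RT 6 * RT 5) = 1 := by
  refine ⟨by decide +kernel, ?_, by decide +kernel⟩
  intro j
  fin_cases j <;> decide +kernel

theorem rs_sq (i : Fin 6) : rs (sm i) * rs (sm i) = 1 :=
  mS_inj (by rw [mS_mul, mS_rs, mS_one]; exact (RT_rel i i).1)

theorem rs_comm {i j : Fin 6} (h : c6 i j = 2) : Commute (rs (sm i)) (rs (sm j)) :=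
  mS_inj (by rw [mS_mul, mS_mul, mS_rs, mS_rs]; exact (RT_rel i j).2.1 h)

theorem rs_braid {i j : Fin 6} (h : c6 i j = 3) :
    rs (sm i) * rs (sm j) * rs (sm i) = rs (sm j) * rs (sm i) * rs (sm j) :=
  mS_inj (by simp only [mS_mul, mS_rs]; exact (RT_rel i j).2.2 h)

theorem rs_cube : rs 6 * rs 6 * rs 6 = 1 :=
  mS_inj (by simp only [mS_mul, mS_rs, mS_one]; exact RT_last.1)

theorem rs_inv : (rs 6)⁻¹ = rs 6 * rs 6 := (eq_inv_of_mul_eq_one_left rs_cube).symm

theorem rs_b (j : Fin 5) :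
    (rs 6)⁻¹ * rs (sm j.castSucc) * (rs 6)⁻¹ * rs (sm j.castSucc) = 1 :=
  mS_inj (by
    rw [rs_inv, mul_assoc _ (rs 6 * rs 6) (rs (sm j.castSucc))]
    simp only [mS_mul, mS_rs, mS_one]
    exact RT_last.2.1 j)

theorem rs_c : ((rs 6)⁻¹ * rs 5) ^ 3 = 1 :=
  mS_inj (by
    rw [rs_inv, pow_succ, pow_succ, pow_one]
    simp only [mS_mul, mS_rs, mS_one]
    exact RT_last.2.2)

theorem rs_conj :
    rho wc * rs 6 = rs 5 * rs 4 * rho wc ∧ rho wc * rs 5 = rs 5 * rs 3 * rho wc := by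
  constructor <;> refine mS_inj ?_ <;> simp only [mS_mul, mS_rs]
  · change mat (piW (wd Data.cW)) * _ = _ * mat (piW (wd Data.cW))
    rw [mat_wc]
    decide +kernel
  · change mat (piW (wd Data.cW)) * _ = _ * mat (piW (wd Data.cW))
    rw [mat_wc]
    decide +kernel

end Cfsg.Agent.Omega8Mult
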