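import Cfsg.Agent.Lib.Omega8Mult.Model
import Cfsg.Agent.Lib.Transfer.SplitLifts

/-!
# A spin representation of the Weyl group of type `E₈`

Eight matrices over the field with three elements give lifts of the reflections; they show that the
commutator `w0` is non-trivial and generates the kernel of the map onto `Ω⁺₈(2)`.
-/

set_option autoImplicit false
set_option linter.unusedSectionVars false
set_option linter.style.haveILetI false
set_option maxRecDepth 40000

namespace Cfsg.Agent.Omega8Mult

open scoped commutatorElement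

/-- Sixteen by sixteen matrices over the field with three elements. -/
abbrev M16 : Type := Matrix (Fin 16) (Fin 16) (ZMod 3)

/-- A matrix from its coded rows. -/
def mk16 (l : List ℕ) : M16 := Matrix.of fun i j => ((l.getD i 0 / 3 ^ (j : ℕ) : ℕ) : ZMod 3)

/-- The spin matrices. -/
def spin (i : Fin 8) : M16 := mk16 (Data.spin i)

/-- The product along the first word. -/
def gMat : M16 := (Data.gChain.map mk16).headD 1

/-- The product along the second word. -/
def hMat : M16 := (Data.hChain.map mk16).headD 1

/-- Their commutator. -/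
def kMat : M16 := mk16 Data.kMat

theorem spin_sq : ∀ i, spin i * spin i = -1 := by
  intro i
  fin_cases i <;> decide +kernel

theorem spin_rel : ∀ i j, (cm i j = 2 → spin i * spin j = -(spin j * spin i)) ∧
    (cm i j = 3 → spin i * spin j * spin i = spin j * spin i * spin j) := by
  intro i j
  fin_cases i <;> fin_cases j <;> decide +kernel

theorem chk_g : chk spin Data.gW (Data.gChain.map mk16) = true := by
  decide +kernel

theorem chk_h : chk spin Data.hW (Data.hChain.map mk16) = true := by
  decide +kernel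

theorem gh_eq : gMat * hMat = kMat * (hMat * gMat) := by
  decide +kernel

theorem gh_ne : gMat * hMat ≠ hMat * gMat ∧ gMat * hMat ≠ -(hMat * gMat) := by
  decide +kernel

theorem k_sq : kMat * kMat = 1 := by
  decide +kernel

theorem k_ne : kMat ≠ 1 ∧ kMat ≠ -1 ∧ (1 : M16) ≠ -1 := by
  decide +kernel

theorem k_anti : ∀ i, kMat * spin i = -(spin i * kMat) := by
  intro i
  fin_cases i <;> decide +kernel

theorem spin_ne : spin 0 * spin 2 * (spin 2 * spin 3) ≠ spin 2 * spin 3 * (spin 0 * spin 2) ∧
    spin 0 * spin 2 * (spin 2 * spin 3) ≠ -(spin 2 * spin 3 * (spin 0 * spin 2)) := by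
  decide +kernel

theorem spin_key : spin 0 * spin 1 * (spin 0 * spin 4) = -(spin 0 * spin 4 * (spin 0 * spin 1)) := by
  decide +kernel

/-- The spin units. -/
def spinU (i : Fin 8) : M16ˣ :=
  ⟨spin i, -spin i, by rw [mul_neg, spin_sq, neg_neg], by rw [neg_mul, spin_sq, neg_neg]⟩

/-- The spin group. -/
def Pin : Subgroup M16ˣ := Subgroup.closure (Set.range spinU)

/-- Its generators. -/
def gen (i : Fin 8) : ↥Pin := ⟨spinU i, Subgroup.subset_closure ⟨i, rfl⟩⟩

/-- The matrix of an element. -/
def val (x : ↥Pin) : M16 := ((x : M16ˣ) : M16)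

theorem val_inj {x y : ↥Pin} (h : val x = val y) : x = y := Subtype.ext (Units.ext h)

theorem val_mul (x y : ↥Pin) : val (x * y) = val x * val y := rfl

theorem val_one : val 1 = 1 := rfl

theorem val_gen (i : Fin 8) : val (gen i) = spin i := rfl

theorem val_prod (w : List (Fin 8)) : val (w.map gen).prod = (w.map spin).prod := by
  induction w with
  | nil => rfl
  | cons a w ih => rw [List.map_cons, List.map_cons, List.prod_cons, List.prod_cons, val_mul, ih, val_gen]

theorem neg_one_mem : (-1 : M16ˣ) ∈ Pin := by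
  have h : spinU 0 * spinU 0 = -1 := Units.ext (by
    rw [Units.val_mul, Units.val_neg, Units.val_one]; exact spin_sq 0)
  rw [← h]
  exact mul_mem (Subgroup.subset_closure ⟨0, rfl⟩) (Subgroup.subset_closure ⟨0, rfl⟩)

/-- Minus one. -/
def mone : ↥Pin := ⟨-1, neg_one_mem⟩

theorem val_mone : val mone = -1 := by
  rw [val, mone, Units.val_neg, Units.val_one]

theorem mone_sq : mone * mone = 1 := val_inj (by rw [val_mul, val_mone, neg_mul_neg, one_mul, val_one])

theorem mone_comm (g : ↥Pin) : Commute g mone :=
  val_inj (by rw [val_mul, val_mul, val_mone, mul_neg_one, neg_one_mul])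

theorem mone_ne : mone ≠ 1 := fun h => by
  have h' := congrArg val h
  rw [val_mone, val_one] at h'
  exact k_ne.2.2 h'.symm

/-- The scalars. -/
def Scal : Subgroup ↥Pin := Subgroup.zpowers mone

theorem mem_scal {x : ↥Pin} : x ∈ Scal ↔ x = 1 ∨ x = mone := by
  constructor
  · intro h
    obtain ⟨k, rfl⟩ := Subgroup.mem_zpowers_iff.1 h
    rcases Int.even_or_odd k with ⟨j, rfl⟩ | ⟨j, rfl⟩
    · refine Or.inl ?_
      rw [← two_mul, _root_.zpow_mul, zpow_ofNat, pow_two, mone_sq, _root_.one_zpow]
    · refine Or.inr ?_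
      rw [zpow_add_one, _root_.zpow_mul, zpow_ofNat, pow_two, mone_sq, _root_.one_zpow, one_mul]
  · rintro (rfl | rfl)
    exacts [one_mem _, Subgroup.mem_zpowers _]

instance scal_normal : Scal.Normal := ⟨fun n hn g => by
  rcases mem_scal.1 hn with rfl | rfl
  · rw [mul_one, mul_inv_cancel]; exact one_mem _
  · rw [(mone_comm g).eq, mul_inv_cancel_right]; exact hn⟩

theorem scal_le_center : (QuotientGroup.mk' Scal).ker ≤ Subgroup.center ↥Pin := by
  rw [QuotientGroup.ker_mk']
  exact Subgroup.zpowers_le.2 (Subgroup.mem_center_iff.2 fun g => (mone_comm g).eq)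

theorem mk_mone : (QuotientGroup.mk mone : ↥Pin ⧸ Scal) = 1 :=
  (QuotientGroup.eq_one_iff _).2 (Subgroup.mem_zpowers _)

theorem mk_eq {x y : ↥Pin} (h : val x = -val y) :
    (QuotientGroup.mk x : ↥Pin ⧸ Scal) = QuotientGroup.mk y := by
  have e : x = mone * y := val_inj (by rw [h, val_mul, val_mone, neg_one_mul])
  rw [e, QuotientGroup.mk_mul, mk_mone, one_mul]

theorem mk_eq_iff {x y : ↥Pin} :
    (QuotientGroup.mk x : ↥Pin ⧸ Scal) = QuotientGroup.mk y ↔ val x = val y ∨ val x = -val y := by
  refine ⟨fun h => ?_, fun h => h.elim (fun e => by rw [val_inj e]) mk_eq⟩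
  rcases mem_scal.1 (QuotientGroup.eq.1 h.symm) with e | e
  · exact Or.inl (congrArg val (inv_mul_eq_one.1 e).symm)
  · refine Or.inr ?_
    rw [eq_mul_of_inv_mul_eq e, val_mul, val_mone, mul_neg_one]

theorem closure_gen : Subgroup.closure (Set.range gen) = ⊤ := by
  have h : Set.range gen = Subtype.val ⁻¹' Set.range spinU := by
    ext x
    constructor
    · rintro ⟨i, rfl⟩; exact ⟨i, rfl⟩
    · rintro ⟨i, hi⟩; exact ⟨i, Subtype.ext hi⟩
  rw [h]
  exact Subgroup.closure_closure_coe_preimage

/-- The Weyl group mapped onto the spin group modulo scalars. -/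
def phiW : WGr →* ↥Pin ⧸ Scal := csys.lift ⟨fun i => QuotientGroup.mk (gen i),
  isLiftable
    (fun i => by
      rw [← QuotientGroup.mk_mul, ← QuotientGroup.mk_one, mk_eq_iff]
      exact Or.inr (by rw [val_mul, val_gen, spin_sq, val_one]))
    (fun i j h => by
      show QuotientGroup.mk (gen i * gen j) = QuotientGroup.mk (gen j * gen i)
      exact mk_eq (by rw [val_mul, val_mul, val_gen, val_gen]; exact (spin_rel i j).1 h))
    (fun i j h => by
      show QuotientGroup.mk (gen i * gen j * gen i) = QuotientGroup.mk (gen j * gen i * gen j)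
      exact congrArg _ (val_inj ((spin_rel i j).2 h)))⟩

theorem phiW_simple (i : Fin 8) : phiW (csys.simple i) = QuotientGroup.mk (gen i) :=
  CoxeterSystem.lift_apply_simple _ _ i

theorem phiW_surjective : Function.Surjective phiW := by
  rw [← MonoidHom.range_eq_top, eq_top_iff,
    ← Subgroup.map_top_of_surjective (QuotientGroup.mk' Scal) (QuotientGroup.mk'_surjective _),
    ← closure_gen, MonoidHom.map_closure, Subgroup.closure_le]
  rintro _ ⟨_, ⟨i, rfl⟩, rfl⟩
  exact ⟨csys.simple i, phiW_simple i⟩

theorem phiW_wd (w : List (Fin 8)) : phiW (wd w) = QuotientGroup.mk (w.map gen).prod := by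
  rw [wd, map_list_prod, List.map_map]
  change (w.map (phiW ∘ csys.simple)).prod = QuotientGroup.mk' Scal (w.map gen).prod
  rw [map_list_prod, List.map_map]
  exact congrArg (fun f => (w.map f).prod) (funext phiW_simple)

/-- The lift of the first special element. -/
def gP : ↥Pin := (Data.gW.map gen).prod

/-- The lift of the second special element. -/
def hP : ↥Pin := (Data.hW.map gen).prod

theorem val_gP : val gP = gMat := by
  rw [gP, val_prod]
  exact chk_prod _ _ _ chk_g

theorem val_hP : val hP = hMat := by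
  rw [hP, val_prod]
  exact chk_prod _ _ _ chk_h

/-- The commutator of the lifts. -/
def kP : ↥Pin := ⁅gP, hP⁆

theorem val_kP : val kP = kMat := by
  have h : kP * (hP * gP) = gP * hP := by rw [kP, commutatorElement_def]; group
  have h' := congrArg val h
  rw [val_mul, val_mul, val_mul, val_gP, val_hP, gh_eq] at h'
  have hu : IsUnit (hMat * gMat) := by
    rw [← val_hP, ← val_gP, ← val_mul]
    exact Units.isUnit _
  exact hu.mul_right_cancel h'

theorem phiW_w0 : phiW w0 = QuotientGroup.mk kP := by
  show phiW ((commutator WGr).subtype w0) = _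
  rw [w0, map_commutatorElement, map_commutatorElement]
  show ⁅phiW (wd Data.gW), phiW (wd Data.hW)⁆ = QuotientGroup.mk' Scal ⁅gP, hP⁆
  rw [phiW_wd, phiW_wd, map_commutatorElement]
  rfl

theorem w0_ne : w0 ≠ 1 := fun h => by
  have h' := phiW_w0
  rw [h, Subgroup.coe_one, map_one, ← QuotientGroup.mk_one, mk_eq_iff, val_one, val_kP] at h'
  rcases h' with e | e
  · exact k_ne.1 e.symm
  · exact k_ne.2.1 (by rw [e, neg_neg])

theorem ker_rho (w : commutator WGr) (hw : rho w = 1) : w = 1 ∨ w = w0 := by
  haveI := finite_W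
  have h0 : w0 ∈ rho.ker := rho_w0
  let y : rho.ker := ⟨w0, h0⟩
  have hne : (1 : rho.ker) ≠ y := fun e => w0_ne (congrArg Subtype.val e).symm
  have h2 : Nat.card rho.ker = 2 := by
    refine le_antisymm card_ker_rho ?_
    haveI : Nontrivial rho.ker := ⟨⟨1, y, hne⟩⟩
    exact Finite.one_lt_card
  obtain ⟨z, -, hz⟩ := (Nat.card_eq_two_iff' (1 : rho.ker)).1 h2
  by_cases e : (⟨w, hw⟩ : rho.ker) = 1
  · exact Or.inl (congrArg Subtype.val e)
  · exact Or.inr (congrArg Subtype.val ((hz _ e).trans (hz y hne.symm).symm))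

/-- The spin map on the derived group. -/
def phiD : commutator WGr →* ↥Pin ⧸ Scal := phiW.comp (commutator WGr).subtype

theorem simple_pair_mem (i j : Fin 8) : csys.simple i * csys.simple j ∈ commutator WGr := by
  simpa [wd] using wd_mem 1 [i, j] rfl

theorem phiD_pair (i j : Fin 8) :
    phiD ⟨_, simple_pair_mem i j⟩ = QuotientGroup.mk (gen i * gen j) := by
  show phiW (csys.simple i * csys.simple j) = _
  rw [map_mul, phiW_simple, phiW_simple]
  rfl

theorem phiD_injective : Function.Injective phiD := by
  haveI := simple_SS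
  rw [← MonoidHom.ker_eq_bot_iff, eq_bot_iff]
  intro w hw
  have hn : (phiD.ker.map rho).Normal := Subgroup.Normal.map inferInstance rho rho_surjective
  rcases IsSimpleGroup.eq_bot_or_eq_top_of_normal _ hn with h | h
  · have h1 : rho w = 1 := Subgroup.mem_bot.1 (h ▸ ⟨w, hw, rfl⟩)
    rcases ker_rho w h1 with rfl | rfl
    · exact one_mem _
    · have h2 := phiW_w0
      rw [show phiW w0 = 1 from hw, ← QuotientGroup.mk_one, mk_eq_iff, val_one, val_kP] at h2
      rcases h2 with e | e
      · exact absurd e.symm k_ne.1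
      · exact absurd (by rw [e, neg_neg]) k_ne.2.1
  · exfalso
    have hall : ∀ x, phiD x = 1 ∨ phiD x = phiD w0 := fun x => by
      have hx : rho x ∈ phiD.ker.map rho := h ▸ Subgroup.mem_top _
      obtain ⟨n, hn, e⟩ := hx
      rcases ker_rho (n⁻¹ * x) (by rw [map_mul, map_inv, e, inv_mul_cancel]) with e' | e'
      · left; rw [← inv_mul_eq_one.1 e']; exact hn
      · right; rw [eq_mul_of_inv_mul_eq e', map_mul, MonoidHom.mem_ker.1 hn, one_mul]
    have hcomm : ∀ x y, phiD x * phiD y = phiD y * phiD x := fun x y => by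
      rcases hall x with e | e <;> rcases hall y with e' | e' <;> simp [e, e']
    have h3 := hcomm ⟨_, simple_pair_mem 0 2⟩ ⟨_, simple_pair_mem 2 3⟩
    rw [phiD_pair, phiD_pair, ← QuotientGroup.mk_mul, ← QuotientGroup.mk_mul, mk_eq_iff] at h3
    simp only [val_mul, val_gen] at h3
    rcases h3 with e | e
    · exact spin_ne.1 e
    · exact spin_ne.2 e

end Cfsg.Agent.Omega8Mult
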