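import Cfsg.Agent.Lib.Omega8Mult.Cover
import Cfsg.Agent.Lib.Forms.SmallPerm

/-!
# `PΩ⁺₈` over a field with two elements
-/

set_option autoImplicit false

namespace Cfsg.Agent.Omega8Mult

universe u

variable {F : Type u} [Field F] [Fintype F]

theorem nonempty_iso (hF : Fintype.card F = 2) :
    Nonempty (Cfsg.POmega F (Cfsg.quadFormPlus 4 F) ≃* SS) := by
  let e : ZMod 2 ≃+* F := ZMod.ringEquivOfPrime F Nat.prime_two hF
  let E : O8 ≃* Cfsg.isometryGroup F (Cfsg.quadFormPlus 4 F) :=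
    Cfsg.Agent.Forms.SmallPerm.isoCongr e fun v => by simp [Cfsg.quadFormPlus]
  have hmap : (Cfsg.Omega (ZMod 2) Q8).map E.toMonoidHom = Cfsg.Omega F (Cfsg.quadFormPlus 4 F) := by
    show (commutator O8).map E.toMonoidHom = commutator _
    rw [map_commutator_eq, MonoidHom.range_eq_top.2 E.surjective]
    rfl
  let EΩ : SS ≃* Cfsg.Omega F (Cfsg.quadFormPlus 4 F) :=
    (E.subgroupMap _).trans (MulEquiv.subgroupCongr hmap)
  have hc : Subgroup.center (Cfsg.Omega F (Cfsg.quadFormPlus 4 F)) = ⊥ := by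
    rw [eq_bot_iff]
    intro z hz
    have h : EΩ.symm z ∈ Subgroup.center SS := Subgroup.mem_center_iff.2 fun g => EΩ.injective (by
      rw [map_mul, map_mul, EΩ.apply_symm_apply]; exact Subgroup.mem_center_iff.1 hz _)
    rw [center_SS, Subgroup.mem_bot] at h
    rw [Subgroup.mem_bot]
    exact EΩ.symm.injective (h.trans (map_one _).symm)
  exact ⟨((QuotientGroup.quotientMulEquivOfEq hc).trans QuotientGroup.quotientBot).trans EΩ.symm⟩

theorem hasSchurMultiplier (hF : Fintype.card F = 2) :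
    Cfsg.HasSchurMultiplier (Cfsg.POmega F (Cfsg.quadFormPlus 4 F))
      (Multiplicative (ZMod 2 × ZMod 2)) := by
  obtain ⟨e⟩ := nonempty_iso hF
  refine ⟨?_, fun Γ _ _ σ hs => ?_⟩
  · obtain ⟨Γ, iG, iF, σ₀, ⟨h1, h2, h3⟩, ⟨ψ⟩⟩ := exists_cover
    let l : ULift.{u} Γ ≃* Γ := MulEquiv.ulift
    let σ : ULift.{u} Γ →* Cfsg.POmega F (Cfsg.quadFormPlus 4 F) :=
      (e.symm.toMonoidHom.comp σ₀).comp l.toMonoidHom
    have hmem : ∀ z, z ∈ σ.ker ↔ l z ∈ σ₀.ker := fun z => by
      rw [MonoidHom.mem_ker, MonoidHom.mem_ker]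
      exact map_eq_one_iff _ e.symm.injective
    refine ⟨ULift.{u} Γ, inferInstance, inferInstance, σ,
      ⟨(e.symm.surjective.comp h1).comp l.surjective, fun z hz => ?_, fun z hz => ?_⟩,
      ⟨MulEquiv.trans ?_ ψ⟩⟩
    · refine Subgroup.mem_center_iff.2 fun g => l.injective ?_
      rw [map_mul, map_mul]
      exact Subgroup.mem_center_iff.1 (h2 ((hmem z).1 hz)) _
    · have h := Subgroup.mem_map_of_mem l.symm.toMonoidHom (h3 ((hmem z).1 hz))
      rw [map_commutator_eq, MonoidHom.range_eq_top.2 l.symm.surjective] at h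
      simpa [commutator_def] using h
    · exact (l.subgroupMap σ.ker).trans (MulEquiv.subgroupCongr (by
        ext x
        exact Subgroup.mem_map_equiv.trans ((hmem _).trans (by rw [l.apply_symm_apply]))))
  · have hk : (e.toMonoidHom.comp σ).ker = σ.ker := by
      ext x
      simp [MonoidHom.mem_ker]
    have hs' : Cfsg.IsStemExtension (e.toMonoidHom.comp σ) :=
      ⟨e.surjective.comp hs.1, hk ▸ hs.2.1, hk ▸ hs.2.2⟩
    obtain ⟨f, hf⟩ := exists_four hs'
    let c := MulEquiv.subgroupCongr hk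
    exact ⟨c.toMonoidHom.comp f, c.surjective.comp hf⟩

end Cfsg.Agent.Omega8Mult
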