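import Cfsg.Agent.Lib.Omega8Mult.Model
import Mathlib.GroupTheory.SemidirectProduct

/-!
# Maps out of the derived group of the Weyl group of type `E₈`

Elements `X i` with `(X i * (X j)⁻¹) ^ cm i j = 1` give a map of the Weyl group into `(Q × Q) ⋊ C₂`,
hence a map of its derived group into `Q`.
-/

set_option autoImplicit false
set_option linter.unusedSectionVars false
set_option maxRecDepth 4000

namespace Cfsg.Agent.Omega8Mult

universe u

variable (Q : Type u) [Group Q]

/-- Interchanging the two factors. -/
def swapHom : ℤˣ →* MulAut (Q × Q) :=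
  MonoidHom.mk' (fun u => if u = 1 then 1 else MulEquiv.prodComm) fun a b => by
    rcases Int.units_eq_one_or a with rfl | rfl <;> rcases Int.units_eq_one_or b with rfl | rfl <;>
      refine MulEquiv.ext fun p => ?_ <;> simp [MulEquiv.prodComm]

theorem swapHom_neg (p : Q × Q) : swapHom Q (-1) p = (p.2, p.1) := by
  simp [swapHom, MulEquiv.prodComm, Prod.swap]

variable {Q}

/-- The involution attached to an element. -/
def tw (x : Q) : (Q × Q) ⋊[swapHom Q] ℤˣ := ⟨(x, x⁻¹), -1⟩

theorem tw_mul (x y : Q) : tw x * tw y = SemidirectProduct.inl (x * y⁻¹, x⁻¹ * y) := by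
  refine SemidirectProduct.ext ?_ ?_
  · simp [tw, swapHom_neg]
  · simp [tw]

theorem isLiftable_tw (X : Fin 8 → Q) (h : ∀ i j, (X i * (X j)⁻¹) ^ cm i j = 1) :
    cm.IsLiftable fun i => tw (X i) := by
  intro i j
  rw [tw_mul, ← map_pow, Prod.pow_mk, h]
  have e : (X i)⁻¹ * X j = (X i)⁻¹ * (X j * (X i)⁻¹) * X i := by group
  have e' : ((X i)⁻¹ * X j) ^ cm i j = (X i)⁻¹ * (X j * (X i)⁻¹) ^ cm i j * X i := by
    rw [e]
    generalize cm i j = n
    induction n with
    | zero => simp
    | succ n ih => rw [pow_succ, ih, pow_succ]; group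
  rw [e', cm.symmetric, h, mul_one, inv_mul_cancel, ← Prod.one_eq_mk, map_one]

/-- The image of a sign in the orthogonal group. -/
def signO : ℤˣ →* O8 :=
  MonoidHom.mk' (fun u => if u = 1 then 1 else t 7) fun a b => by
    rcases Int.units_eq_one_or a with rfl | rfl <;> rcases Int.units_eq_one_or b with rfl | rfl <;>
      simp [t_sq]

theorem exists_derived_hom (X : Fin 8 → Q) (h : ∀ i j, (X i * (X j)⁻¹) ^ cm i j = 1)
    (τ : Q →* O8) (hτ : ∀ i, τ (X i) = t i * t 7) :
    ∃ φ : commutator WGr →* Q, ∀ w : commutator WGr, τ (φ w) = piW w := by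
  let f : WGr →* (Q × Q) ⋊[swapHom Q] ℤˣ := csys.lift ⟨_, isLiftable_tw X h⟩
  have hright : ∀ w ∈ commutator WGr, (f w).right = 1 := fun w hw =>
    MonoidHom.mem_ker.1 ((Abelianization.commutator_subset_ker (SemidirectProduct.rightHom.comp f)) hw)
  let φ : commutator WGr →* Q :=
    MonoidHom.mk' (fun w => (f w.1).left.1) fun a b => by
      rw [Subgroup.coe_mul, map_mul, SemidirectProduct.mul_left, hright _ a.2, map_one]
      rfl
  have key : ∀ w, piW w = τ (f w).left.1 * signO (f w).right ∧
      τ (f w).left.2 = t 7 * τ (f w).left.1 * t 7 := by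
    intro w
    induction w using csys.simple_induction with
    | simple i =>
      rw [show f (csys.simple i) = tw (X i) from CoxeterSystem.lift_apply_simple _ _ i, piW_simple]
      have hs : signO (-1) = t 7 := by simp [signO]
      refine ⟨?_, ?_⟩
      · show t i = τ (X i) * signO (-1)
        rw [hτ, hs, mul_assoc, t_sq, mul_one]
      · show τ (X i)⁻¹ = t 7 * τ (X i) * t 7
        rw [map_inv, hτ, _root_.mul_inv_rev, inv_eq_of_mul_eq_one_right (t_sq i),
          inv_eq_of_mul_eq_one_right (t_sq 7), mul_assoc, mul_assoc (t i), t_sq, mul_one]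
    | one =>
      refine ⟨?_, ?_⟩
      · rw [map_one, map_one]
        show (1 : O8) = τ 1 * signO 1
        rw [map_one, map_one, mul_one]
      · rw [map_one]
        show τ 1 = t 7 * τ 1 * t 7
        rw [map_one, mul_one, t_sq]
    | mul a b ih ih' =>
      rw [map_mul, map_mul, SemidirectProduct.mul_left, SemidirectProduct.mul_right, map_mul,
        ih.1, ih'.1]
      rcases Int.units_eq_one_or (f a).right with e | e
      · rw [e, map_one, map_one, MulAut.one_apply]
        refine ⟨?_, ?_⟩
        · show τ (f a).left.1 * 1 * (τ (f b).left.1 * signO (f b).right) =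
            τ ((f a).left.1 * (f b).left.1) * (1 * signO (f b).right)
          rw [map_mul, mul_one, one_mul, mul_assoc]
        · show τ ((f a).left.2 * (f b).left.2) = t 7 * τ ((f a).left.1 * (f b).left.1) * t 7
          rw [map_mul, map_mul, ih.2, ih'.2]
          simp only [mul_assoc]
          rw [← mul_assoc (t 7) (t 7), t_sq, one_mul]
      · rw [e, swapHom_neg, show signO (-1) = t 7 by simp [signO]]
        refine ⟨?_, ?_⟩
        · show τ (f a).left.1 * t 7 * (τ (f b).left.1 * signO (f b).right) =
            τ ((f a).left.1 * (f b).left.2) * (t 7 * signO (f b).right)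
          rw [map_mul, ih'.2]
          simp only [mul_assoc]
          rw [← mul_assoc (t 7) (t 7) (signO _), t_sq, one_mul]
        · show τ ((f a).left.2 * (f b).left.1) = t 7 * τ ((f a).left.1 * (f b).left.2) * t 7
          rw [map_mul, map_mul, ih.2, ih'.2]
          simp only [mul_assoc, t_sq, mul_one]
  refine ⟨φ, fun w => ?_⟩
  have e := (key w.1).1
  rw [hright _ w.2, map_one, mul_one] at e
  exact e.symm

end Cfsg.Agent.Omega8Mult
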