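import Cfsg.Agent.Lib.Omega8Mult.Lifts
import Cfsg.Agent.Lib.Omega8Mult.Wreath
import Cfsg.Prelude.Def_KGroupFacts

/-!
# The kernel of a stem extension of `Ω⁺₈(2)` is an image of the four-group
-/

set_option autoImplicit false
set_option linter.unusedSectionVars false
set_option maxRecDepth 4000

namespace Cfsg.Agent.Omega8Mult

open scoped commutatorElement IsMulCommutative

universe v

/-- The map of the four-group given by two commuting involutions. -/
def four {G : Type v} [Group G] (a b : G) (ha : a * a = 1) (hb : b * b = 1) (hab : Commute a b) :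
    Multiplicative (ZMod 2 × ZMod 2) →* G :=
  MonoidHom.mk' (fun p => a ^ p.toAdd.1.val * b ^ p.toAdd.2.val) fun p q => by
    have ha2 : a ^ 2 = 1 := by rw [pow_two, ha]
    have hb2 : b ^ 2 = 1 := by rw [pow_two, hb]
    rw [toAdd_mul, Prod.fst_add, Prod.snd_add, ZMod.val_add, ZMod.val_add, ← pow_eq_pow_mod _ ha2,
      ← pow_eq_pow_mod _ hb2, pow_add, pow_add, ((hab.pow_pow _ _).symm).mul_mul_mul_comm]

theorem four_values {G : Type v} [Group G] {a b : G} (ha : a * a = 1) (hb : b * b = 1)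
    (hab : Commute a b) :
    four a b ha hb hab (Multiplicative.ofAdd (1, 0)) = a ∧
      four a b ha hb hab (Multiplicative.ofAdd (0, 1)) = b := by
  constructor
  · show a ^ (1 : ZMod 2).val * b ^ (0 : ZMod 2).val = a
    rw [ZMod.val_one, ZMod.val_zero, pow_one, pow_zero, mul_one]
  · show a ^ (0 : ZMod 2).val * b ^ (1 : ZMod 2).val = b
    rw [ZMod.val_one, ZMod.val_zero, pow_one, pow_zero, one_mul]

theorem alg_zy {Z : Type v} [CommGroup Z] (s a b c : Z) (h1 : (a * c) ^ 2 * (s ^ 3)⁻¹ = 1)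
    (h2 : a ^ 2 * b ^ 3 = s ^ 3) :
    (s * (a * c)⁻¹) ^ 2 * s = 1 ∧ a * (s * (a * b)⁻¹) ^ 3 = 1 ∧
      b * ((s * (a * b)⁻¹)⁻¹ * (s * (a * c)⁻¹)) ^ 2 = 1 ∧
      c * ((s * (a * b)⁻¹)⁻¹ * (s * (a * c)⁻¹)) ^ 3 = 1 := by
  have e1 := congrArg Additive.ofMul h1
  have e2 := congrArg Additive.ofMul h2
  simp only [ofMul_mul, ofMul_pow, ofMul_inv, ofMul_one] at e1 e2
  refine ⟨?_, ?_, ?_, ?_⟩ <;> apply Additive.ofMul.injective <;>
    simp only [ofMul_mul, ofMul_pow, ofMul_inv, ofMul_one]
  · linear_combination (norm := module) (-1 : ℤ) • e1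
  · linear_combination (norm := module) (-1 : ℤ) • e2
  · linear_combination (norm := module) (1 : ℤ) • e2 + (-1 : ℤ) • e1
  · linear_combination (norm := module) (1 : ℤ) • e2 + (-1 : ℤ) • e1

theorem exists_tw {Q : Type v} [Group Q] {K : Subgroup Q} (hK : K ≤ Subgroup.center Q)
    (R : Fin 7 → Q) {s a b c : Q} (hs : s ∈ K) (ha : a ∈ K) (hb : b ∈ K) (hc : c ∈ K)
    (hsq : ∀ i, R (sm i) * R (sm i) = s)
    (hcm : ∀ i j, c6 i j = 2 → Commute (R (sm i)) (R (sm j)))
    (hbr : ∀ i j, c6 i j = 3 → R (sm i) * R (sm j) * R (sm i) = R (sm j) * R (sm i) * R (sm j))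
    (hcu : R 6 * R 6 * R 6 = a)
    (hB : ∀ j : Fin 5, (R 6)⁻¹ * R (sm j.castSucc) * (R 6)⁻¹ * R (sm j.castSucc) = b)
    (hC : ((R 6)⁻¹ * R 5) ^ 3 = c) (h1 : (a * c) ^ 2 * (s ^ 3)⁻¹ = 1) (h2 : a ^ 2 * b ^ 3 = s ^ 3) :
    ∃ X : Fin 8 → Q, (∀ i j, (X i * (X j)⁻¹) ^ cm i j = 1) ∧ X 7 = 1 ∧
      ∀ i : Fin 7, ∃ k ∈ K, X i.castSucc = (R i * k)⁻¹ := by
  obtain ⟨g1, g2, g3, g4⟩ := alg_zy (Z := Subgroup.center Q) ⟨s, hK hs⟩ ⟨a, hK ha⟩ ⟨b, hK hb⟩
    ⟨c, hK hc⟩ (Subtype.ext h1) (Subtype.ext h2)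
  have g1' := congrArg Subtype.val g1
  have g2' := congrArg Subtype.val g2
  have g3' := congrArg Subtype.val g3
  have g4' := congrArg Subtype.val g4
  simp only [Subgroup.coe_mul, SubmonoidClass.coe_pow, Subgroup.coe_inv, Subgroup.coe_one] at g1' g2' g3' g4'
  set z := s * (a * c)⁻¹ with hz
  set y := s * (a * b)⁻¹ with hy
  have hzK : z ∈ K := mul_mem hs (inv_mem (mul_mem ha hc))
  have hyK : y ∈ K := mul_mem hs (inv_mem (mul_mem ha hb))
  have hcen : ∀ {k : Q}, k ∈ K → ∀ g, Commute g k := fun hk g => Subgroup.mem_center_iff.1 (hK hk) g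
  let U : Fin 7 → Q := Fin.lastCases (R 6 * y) fun i => R (sm i) * z
  have hU : ∀ i, U (sm i) = R (sm i) * z := fun i => Fin.lastCases_castSucc i
  have hU6 : U (Fin.last 6) = R 6 * y := Fin.lastCases_last
  let X : Fin 8 → Q := Fin.lastCases 1 fun i => (U i)⁻¹
  have hX : ∀ i : Fin 7, X i.castSucc = (U i)⁻¹ := fun i => Fin.lastCases_castSucc i
  have hX7 : X (Fin.last 7) = 1 := Fin.lastCases_last
  have hu2 : ∀ i, U (sm i) * U (sm i) = 1 := fun i => by
    rw [hU, (hcen hzK (R (sm i))).symm.mul_mul_mul_comm, hsq, ← pow_two, (hcen hs (z ^ 2)).eq.symm]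
    exact g1'
  have hucm : ∀ i j, c6 i j = 2 → Commute (U (sm i)) (U (sm j)) := fun i j h => by
    rw [hU, hU]
    exact ((hcm i j h).mul_right (hcen hzK _)).mul_left ((hcen hzK _).symm.mul_right (Commute.refl z))
  have hubr : ∀ i j, c6 i j = 3 → U (sm i) * U (sm j) * U (sm i) = U (sm j) * U (sm i) * U (sm j) :=
    fun i j h => by
    have hh : ∀ a b c : Q, a * z * (b * z) * (c * z) = a * b * c * (z * z * z) := fun a b c => by
      rw [(hcen hzK b).symm.mul_mul_mul_comm, mul_assoc (a * b), ← mul_assoc (z * z) c z,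
        ← ((hcen hzK c).mul_right (hcen hzK c)).eq]
      simp only [mul_assoc]
    rw [hU, hU, hh, hh, hbr i j h]
  have hu6 : U (Fin.last 6) ^ 3 = 1 := by
    rw [hU6, (hcen hyK (R 6)).mul_pow, show R 6 ^ 3 = a by
      rw [← hcu]; simp only [pow_succ, pow_zero, one_mul]]
    exact g2'
  have hu6j : ∀ i : Fin 6, (U (Fin.last 6))⁻¹ * U (sm i) =
      (R 6)⁻¹ * R (sm i) * (y⁻¹ * z) := fun i => by
    rw [hU6, hU, _root_.mul_inv_rev, ← (hcen (inv_mem hyK) (R 6)⁻¹).eq,
      ((hcen (inv_mem hyK) (R (sm i))).symm).mul_mul_mul_comm]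
  have hrel : ∀ i : Fin 7, ∀ j : Fin 7, ((U i)⁻¹ * U j) ^ cm i.castSucc j.castSucc = 1 := by
    have hsym : ∀ (p q : Q) (n : ℕ), (p⁻¹ * q) ^ n = 1 → (q⁻¹ * p) ^ n = 1 := fun p q n h => by
      rw [show q⁻¹ * p = (p⁻¹ * q)⁻¹ by group, inv_pow, h, inv_one]
    have h6 : ∀ i : Fin 6,
        ((U (Fin.last 6))⁻¹ * U (sm i)) ^ cm (Fin.last 6).castSucc (sm i).castSucc = 1 := by
      intro i
      induction i using Fin.lastCases with
      | last =>
        rw [hu6j, show cm (Fin.last 6).castSucc (sm (Fin.last 5)).castSucc = 3 by decide +kernel,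
          (hcen (mul_mem (inv_mem hyK) hzK) _).mul_pow, show sm (Fin.last 5) = 5 from rfl, hC]
        exact g4'
      | cast j =>
        have h : ∀ j : Fin 5, cm (Fin.last 6).castSucc (sm j.castSucc).castSucc = 2 := by
          intro j
          fin_cases j <;> decide +kernel
        rw [hu6j, h, (hcen (mul_mem (inv_mem hyK) hzK) _).mul_pow,
          show ((R 6)⁻¹ * R (sm j.castSucc)) ^ 2 = b by rw [pow_two, ← hB j]; simp only [mul_assoc]]
        exact g3'
    intro i j
    induction i using Fin.lastCases with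
    | last =>
      induction j using Fin.lastCases with
      | last => rw [inv_mul_cancel, one_pow]
      | cast j => exact h6 j
    | cast i =>
      induction j using Fin.lastCases with
      | last => rw [cm.symmetric]; exact hsym _ _ _ (h6 i)
      | cast j =>
        change ((U (sm i))⁻¹ * U (sm j)) ^ cm i.castSucc.castSucc j.castSucc.castSucc = 1
        rw [inv_eq_of_mul_eq_one_right (hu2 i)]
        rcases e8_cases i.castSucc.castSucc j.castSucc.castSucc with h | h | h
        · rw [Fin.castSucc_inj, Fin.castSucc_inj] at h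
          subst h
          exact (congrArg (· ^ _) (hu2 i)).trans (one_pow _)
        · rw [h, pow_two]
          change U (sm i) * U (sm j) * (U (sm i) * U (sm j)) = 1
          rw [(hucm i j h).symm.mul_mul_mul_comm, hu2, hu2, one_mul]
        · rw [h]
          exact braid_pow (hu2 i) (hu2 j) (hubr i j h)
  refine ⟨X, fun i j => ?_, hX7, fun i => ?_⟩
  · have hlast : ∀ i : Fin 7, (U i) ^ cm i.castSucc (Fin.last 7) = 1 := by
      intro i
      induction i using Fin.lastCases with
      | last =>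
        rw [show cm (Fin.last 6).castSucc (Fin.last 7) = 3 by decide +kernel]
        exact hu6
      | cast i =>
        have h : ∀ i : Fin 6, cm i.castSucc.castSucc (Fin.last 7) = 2 := by
          intro i
          fin_cases i <;> decide +kernel
        rw [h, pow_two]
        exact hu2 i
    induction i using Fin.lastCases with
    | last =>
      induction j using Fin.lastCases with
      | last => rw [mul_inv_cancel, one_pow]
      | cast j => rw [hX, hX7, inv_inv, one_mul, cm.symmetric, hlast]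
    | cast i =>
      induction j using Fin.lastCases with
      | last => rw [hX, hX7, inv_one, mul_one, inv_pow, hlast, inv_one]
      | cast j => rw [hX, hX, inv_inv, hrel]
  · induction i using Fin.lastCases with
    | last => exact ⟨y, hyK, by rw [hX, hU6]; rfl⟩
    | cast i => exact ⟨z, hzK, by rw [hX]; exact congrArg _ (hU i)⟩

variable {Γ : Type v} [Group Γ] {σ : Γ →* SS}

set_option maxHeartbeats 800000 in
/-- The kernel of a stem extension is an image of the four-group. -/
theorem exists_four (hst : Cfsg.IsStemExtension σ) :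
    ∃ f : Multiplicative (ZMod 2 × ZMod 2) →* σ.ker, Function.Surjective f := by
  classical
  obtain ⟨hsur, hc, hd⟩ := hst
  obtain ⟨ε, s, a, b, c, R, ⟨hεk, hsk, hak, hbk, hck⟩, hε2, hR, hsq, hE, hbr, hcu, hB, hC, h2, h1⟩ :=
    exists_lifts hsur hc
  have hcen : ∀ {z : Γ}, z ∈ σ.ker → ∀ g, Commute g z := fun hz g => Subgroup.mem_center_iff.1 (hc hz) g
  set N := Subgroup.zpowers ε with hN
  have hNk : N ≤ σ.ker := Subgroup.zpowers_le.2 hεk
  haveI : N.Normal := ⟨fun n hn g => by rw [(hcen (hNk hn) g).eq, mul_inv_cancel_right]; exact hn⟩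
  let q : Γ →* Γ ⧸ N := QuotientGroup.mk' N
  let σb : Γ ⧸ N →* SS := QuotientGroup.lift N σ hNk
  have hσb : ∀ g, σb (q g) = σ g := fun g => QuotientGroup.lift_mk' N _ g
  have hcb : σb.ker ≤ Subgroup.center (Γ ⧸ N) := fun x hx => by
    obtain ⟨g, rfl⟩ := QuotientGroup.mk'_surjective N x
    refine Subgroup.mem_center_iff.2 fun y => ?_
    obtain ⟨h, rfl⟩ := QuotientGroup.mk'_surjective N y
    exact ((hcen ((hσb g).symm.trans hx) h).map q).eq
  have hqk : ∀ {g}, g ∈ σ.ker → q g ∈ σb.ker := fun {g} hg => (hσb g).trans hg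
  obtain ⟨X, hXrel, hX7, hX⟩ := exists_tw (K := σb.ker) hcb (q ∘ R) (hqk hsk) (hqk hak) (hqk hbk)
    (hqk hck) (fun i => by simp only [Function.comp_apply, ← map_mul, hsq])
    (fun i j h => by
      rw [← commutatorElement_eq_one_iff_commute, Function.comp_apply, Function.comp_apply,
        ← map_commutatorElement, hE i j h]
      exact (QuotientGroup.eq_one_iff _).2 (Subgroup.mem_zpowers ε))
    (fun i j h => by simp only [Function.comp_apply, ← map_mul, hbr i j h])
    (by simp only [Function.comp_apply, ← map_mul, hcu])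
    (fun j => by simp only [Function.comp_apply, ← map_inv, ← map_mul, hB])
    (by simp only [Function.comp_apply, ← map_inv, ← map_mul, ← map_pow, hC])
    (by rw [← map_mul, ← map_pow, ← map_pow, ← map_inv, ← map_mul]
        exact (QuotientGroup.eq_one_iff _).2 h1)
    (by rw [← map_pow, ← map_pow, ← map_mul, h2, map_pow])
  let τ : Γ ⧸ N →* O8 := (Cfsg.Omega (ZMod 2) Q8).subtype.comp σb
  have hτ : ∀ i, τ (X i) = t i * t 7 := by
    intro i
    induction i using Fin.lastCases with
    | last =>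
      rw [show X (Fin.last 7) = 1 from hX7, map_one]
      exact (t_sq 7).symm
    | cast i =>
      obtain ⟨k, hk, e⟩ := hX i
      show ((σb (X i.castSucc) : SS) : O8) = _
      rw [e, map_inv, map_mul, MonoidHom.mem_ker.1 hk, mul_one, Function.comp_apply, hσb, hR,
        Subgroup.coe_inv, rs_val, _root_.mul_inv_rev, inv_eq_of_mul_eq_one_right (t_sq _),
        inv_eq_of_mul_eq_one_right (t_sq _)]
  obtain ⟨φ, hφ⟩ := exists_derived_hom X hXrel τ hτ
  have hφσ : ∀ w, σb (φ w) = rho w := fun w => Subtype.ext (hφ w)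
  -- the quotient is the image of the derived group
  have hrange : ∀ x ∈ commutator (Γ ⧸ N), x ∈ φ.range := by
    suffices h : commutator (Γ ⧸ N) ≤ φ.range from fun x hx => h hx
    rw [commutator_def, Subgroup.commutator_le]
    intro x _ y _
    obtain ⟨w, hw⟩ := rho_surjective (σb x)
    obtain ⟨w', hw'⟩ := rho_surjective (σb y)
    exact ⟨⁅w, w'⁆, by
      rw [map_commutatorElement]
      exact Cfsg.Agent.Transfer.SplitLifts.comm_congr hcb ((hφσ w).trans hw) ((hφσ w').trans hw')⟩
  have hperf : commutator Γ = ⊤ := by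
    rw [eq_top_iff]
    intro g _
    have h : (commutator Γ).map σ = ⊤ := by
      rw [commutator_def, Subgroup.map_commutator, Subgroup.map_top_of_surjective σ hsur,
        ← commutator_def, perfect_SS]
    obtain ⟨g', hg', e⟩ : σ g ∈ (commutator Γ).map σ := h ▸ Subgroup.mem_top _
    have h2 : g'⁻¹ * g ∈ commutator Γ := hd (by rw [MonoidHom.mem_ker, map_mul, map_inv, e, inv_mul_cancel])
    have := mul_mem hg' h2
    rwa [mul_inv_cancel_left] at this
  -- the second involution
  obtain ⟨gl, hgl⟩ := hsur (rho wg)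
  obtain ⟨hl, hhl⟩ := hsur (rho wh)
  set k0 := ⁅gl, hl⁆ with hk0
  have hk0k : k0 ∈ σ.ker := by
    rw [MonoidHom.mem_ker, hk0, map_commutatorElement, hgl, hhl, ← map_commutatorElement]
    exact rho_w0
  have hk02 : k0 * k0 = 1 := by
    have hg2 : gl * gl ∈ σ.ker := by rw [MonoidHom.mem_ker, map_mul, hgl, rho_wg_sq]
    have e1 : ⁅gl * gl, hl⁆ = 1 := commutatorElement_eq_one_iff_commute.2 (hcen hg2 hl).symm
    have e2 : ⁅gl * gl, hl⁆ = gl * k0 * gl⁻¹ * k0 := by
      simp only [hk0, commutatorElement_def]; group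
    rw [e1, (hcen hk0k gl).eq, mul_inv_cancel_right] at e2
    exact e2.symm
  have hqk0 : φ w0 = q k0 := by
    rw [w0, map_commutatorElement, hk0, map_commutatorElement]
    exact Cfsg.Agent.Transfer.SplitLifts.comm_congr hcb ((hφσ wg).trans (by rw [hσb, hgl]))
      ((hφσ wh).trans (by rw [hσb, hhl]))
  let e : σ.ker := ⟨ε, hεk⟩
  let k : σ.ker := ⟨k0, hk0k⟩
  have he : e * e = 1 := Subtype.ext hε2
  have hk : k * k = 1 := Subtype.ext hk02
  have hek : Commute e k := Subtype.ext (hcen hk0k ε).eq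
  refine ⟨four e k he hk hek, fun x => ?_⟩
  obtain ⟨v1, v2⟩ := four_values he hk hek
  have hmem : x.1 ∈ Subgroup.closure ({ε, k0} : Set Γ) := by
    have hx : q x.1 ∈ φ.range := by
      refine hrange _ ?_
      have : x.1 ∈ commutator Γ := hperf ▸ Subgroup.mem_top _
      have h3 : q x.1 ∈ (commutator Γ).map q := ⟨_, this, rfl⟩
      rwa [commutator_def, Subgroup.map_commutator,
        Subgroup.map_top_of_surjective q (QuotientGroup.mk'_surjective N), ← commutator_def] at h3
    obtain ⟨w, hw⟩ := hx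
    have hw1 : rho w = 1 := by rw [← hφσ, hw, hσb]; exact x.2
    have hε : ε ∈ Subgroup.closure ({ε, k0} : Set Γ) := Subgroup.subset_closure (Set.mem_insert _ _)
    have hNc : N ≤ Subgroup.closure ({ε, k0} : Set Γ) := Subgroup.zpowers_le.2 hε
    rcases ker_rho w hw1 with rfl | rfl
    · rw [map_one] at hw
      exact hNc ((QuotientGroup.eq_one_iff _).1 hw.symm)
    · rw [hqk0] at hw
      have h3 := hNc (QuotientGroup.eq.1 hw)
      have h4 := mul_mem (Subgroup.subset_closure (Set.mem_insert_of_mem _ rfl) :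
        k0 ∈ Subgroup.closure ({ε, k0} : Set Γ)) h3
      rwa [mul_inv_cancel_left] at h4
  have hle : Subgroup.closure ({ε, k0} : Set Γ) ≤ (four e k he hk hek).range.map σ.ker.subtype := by
    rw [Subgroup.closure_le]
    rintro y (rfl | rfl)
    · exact ⟨e, ⟨_, v1⟩, rfl⟩
    · exact ⟨k, ⟨_, v2⟩, rfl⟩
  obtain ⟨y, hy, exy⟩ := hle hmem
  obtain ⟨p, hp⟩ := hy
  exact ⟨p, hp.trans (Subtype.ext exy)⟩

end Cfsg.Agent.Omega8Mult
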